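import Cfsg.Agent.H86.SE.Hidx
import Cfsg.Agent.H89.KeyCriterion

/-! The product of `S` with a normal subsystem is saturated. -/

set_option autoImplicit false
set_option linter.unusedSectionVars false

open Cfsg Cfsg.FusionSystem

namespace H86.SE

variable {Ω : Type*} [Group Ω] {S T : Subgroup Ω} [Finite S] {p : ℕ} [Fact p.Prime]
  {F : FusionSystem S} {E : FusionSystem T}

/-- Every subgroup has a fully normalized conjugate lying over a top subgroup. -/
theorem exists_fn_over_top (d : Data p F E) {P₀ : Subgroup Ω} (hP₀ : P₀ ≤ S)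
    (hup : ∀ R : Subgroup Ω, R ≤ S → key S T P₀ < key S T R → Sat p (prodSys d) R) :
    ∃ P, (prodSys d).IsConj P₀ P ∧ (prodSys d).IsFullyNormalized P ∧ IsTop d (P ⊓ T) := by
  obtain ⟨P₁, hc₁, hn₁⟩ := H85.exists_fullyNormalized (prodSys d) hP₀
  have hP₁S := hn₁.1
  have hsat : SatAbove d (Nat.card ↥(P₁ ⊓ T)) :=
    satAbove_of_key d hP₁S fun R hR hlt => hup R hR (by rwa [key_conj d hc₁])
  obtain ⟨U, hU, χ, hχ, hχN, himg⟩ := exists_top d hP₁S hsat
  have hP₁N := le_normalizerIn_inf d hP₁S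
  set P := H85.img χ P₁ with hPdef
  have hconj : (prodSys d).IsConj P₁ P := H85.isConj_img hχ hP₁N
  have hPS := (H85.isConj_le hconj).2
  have hPU : P ⊓ T = U := by
    rw [← himg]
    refine le_antisymm ?_ ?_
    · rintro y ⟨hy, hyT⟩
      obtain ⟨x, hx, rfl⟩ := H85.mem_img.1 hy
      exact H85.apply_mem_img ⟨hx, (d.mapT (prodSys_sub d _ hχ) x).1 hyT⟩
    · intro y hy
      obtain ⟨x, hx, rfl⟩ := H85.mem_img.1 hy
      exact ⟨H85.apply_mem_img hx.1, (d.mapT (prodSys_sub d _ hχ) x).2 hx.2⟩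
  refine ⟨P, H85.isConj_trans hc₁ hconj, ⟨hPS, fun Q hQ => ?_⟩, hPU ▸ hU⟩
  refine (hn₁.2 Q (H85.isConj_trans hconj hQ)).trans ?_
  have hψ := H85.restrict hχ (norm_inf d hP₁S)
  have hm : ∀ g : normalizerIn S P₁,
      χ (Subgroup.inclusion (norm_inf d hP₁S) g) ∈ normalizerIn S P := by
    intro g
    have h := H85.map_normalizing hψ (H85.le_normalizerIn hP₁S) le_rfl g
    rwa [H85.img_congr (U := P₁) (ψ := χ) (H85.le_normalizerIn hP₁S) hP₁N fun x => rfl] at h
  have : Finite (normalizerIn S P) := H85.finite_of_le (H85.normalizerIn_le P)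
  exact Nat.card_le_card_of_injective (fun g => (⟨_, hm g⟩ : normalizerIn S P)) fun a b hab =>
    Subgroup.inclusion_injective (norm_inf d hP₁S)
      ((prodSys d).injective_of_mem hχ (congrArg Subtype.val hab))

/-- The automorphisms of `S` in the product. -/
theorem autGroup_base (d : Data p F E) : (prodSys d).autGroup S ≤ kGen d S := by
  classical
  let X : FusionSystem S :=
    { Hom := fun R => {φ | φ ∈ (prodSys d).Hom R ∧
        ∀ h : R = S, ∃ a ∈ kGen d S, ∀ x : R, φ x = a ⟨x, h.le x.2⟩}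
      le_of_mem := fun h => (prodSys d).le_of_mem h.1
      injective_of_mem := fun h => (prodSys d).injective_of_mem h.1
      conj_mem := fun {R g} hR hg => ⟨(prodSys d).conj_mem hR hg, fun h =>
        ⟨_, Subgroup.mem_sup_right (H85.mem_autInducedBy.2
          ⟨g, hg, fun _ => (rfl : ((H85.conjAut S S ⟨g, hg, Subgroup.le_normalizer hg⟩) _ : Ω) = _)⟩),
          fun _ => rfl⟩⟩
      comp_mem := by
        rintro R Q φ ψ ⟨hφ, hφa⟩ ⟨hψ, hψb⟩ hm
        refine ⟨(prodSys d).comp_mem hφ hψ hm, fun h => ?_⟩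
        subst h
        obtain ⟨a, ha, hae⟩ := hφa rfl
        have hQ : Q = R := le_antisymm (H85.source_le hψ) fun y hy => by
          obtain ⟨x, hx⟩ := a.surjective ⟨y, hy⟩
          have h1 := hm x
          rwa [hae, show a ⟨x, le_rfl (a := R) x.2⟩ = ⟨y, hy⟩ from hx] at h1
        obtain ⟨b, hb, hbe⟩ := hψb hQ
        refine ⟨b * a, mul_mem hb ha, fun x => ?_⟩
        show ψ ⟨φ x, hm x⟩ = b (a x)
        rw [hbe]
        exact congrArg (fun z => (b z : Ω)) (Subtype.ext (hae x))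
      inv_mem := by
        rintro R φ ⟨hφ, hφa⟩
        obtain ⟨ψ, hψ, hψe⟩ := (prodSys d).inv_mem hφ
        refine ⟨ψ, ⟨hψ, fun h => ?_⟩, hψe⟩
        have hR : R = S := Subgroup.eq_of_le_of_card_ge (H85.source_le hφ)
          (by rw [← h, card_range (prodSys d) hφ])
        obtain ⟨a, ha, hae⟩ := hφa hR
        refine ⟨a⁻¹, inv_mem ha, ?_⟩
        rintro ⟨_, x, rfl⟩
        rw [hψe]
        refine congrArg Subtype.val (show (⟨(x : Ω), hR.le x.2⟩ : S) = _ from a.injective ?_)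
        rw [MulAut.apply_inv_self]
        exact Subtype.ext (hae x).symm }
  have hDX : prodSys d ≤ X := gen_le d X fun R φ hφ => ⟨gen_sub d R hφ, fun h => by
    obtain ⟨-, a, ha, hord, rfl⟩ := hφ
    subst h
    exact ⟨a, coprime_kGen d ha hord, fun x => rfl⟩⟩
  intro a ha
  obtain ⟨b, hb, hbe⟩ := (hDX S ((H85.mem_autGroup le_rfl).1 ha)).2 rfl
  rwa [show a = b from MulEquiv.ext fun x => Subtype.ext (hbe x)]

set_option maxHeartbeats 800000 in
/-- Saturation at the admissible subgroups. -/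
theorem sat_hs (d : Data p F E) {P₀ : Subgroup Ω} (hP₀ : P₀ ∈ Hs d) (hP₀S : P₀ ≤ S)
    (hup : ∀ R : Subgroup Ω, R ≤ S → key S T P₀ < key S T R → Sat p (prodSys d) R) :
    Sat p (prodSys d) P₀ := by
  classical
  obtain ⟨P, hc, hn, htop⟩ := exists_fn_over_top d hP₀S hup
  have hPH : P ∈ Hs d := hs_conj_prodSys d _ hP₀ _ hc
  have hPS : P ≤ S := hPH.1
  have : Finite P := H85.finite_of_le hPS
  have : Finite (MulAut P) := Finite.of_injective (fun e => (e : P → P)) DFunLike.coe_injective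
  have hG := good_of_fn d hPH hn htop
  have hkey : key S T P₀ = key S T P := key_conj d hc
  have hnm : ∀ Q, (prodSys d).IsConj P Q →
      ∃ χ ∈ (prodSys d).Hom (normalizerIn S Q),
        (∀ x, χ x ∈ normalizerIn S P) ∧ H85.img χ Q = P := by
    intro Q hQ
    rcases eq_or_lt_of_le hPS with heq | hlt
    · have hQP : Q = P := by
        subst heq
        exact H85.conj_top hQ
      subst hQP
      exact ⟨_, H85.id_mem _ (H85.normalizerIn_le _), fun x => x.2,
        img_id (H85.le_normalizerIn hPS)⟩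
    refine H89.KeyCrit.charts_exists d.hS (prodSys d) (Gen d) (gen_sub d) (gen_le d)
      ⟨le_rfl, fun R _ φ hφ x => H85.map_mem hφ x⟩ hlt (fun R f hf A hA _ => ?_)
      (fun A R hA hAR hR => hup R hR ?_) (H85.isConj_refl _ hPS) hn hQ
    · rcases eq_or_lt_of_le hA with h | h
      · right
        rw [h, H85.img_self, gen_range d hf]
      · exact Or.inl (h.trans_le (le_inf le_rfl (H85.source_le (gen_sub d R hf))))
    · rw [hkey, key_conj d hA]
      exact key_mono (hAR.trans_le inf_le_left) hR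
  have haut : (prodSys d).autGroup P = kGen d P := by
    refine le_antisymm ?_ (kGen_le_prodSys d hPH)
    rcases eq_or_lt_of_le hPS with heq | hlt
    · subst heq
      exact autGroup_base d
    refine H89.KeyCrit.autGroup_le_of_ext d.hS (prodSys d) (Gen d) (gen_sub d)
      (fun R f hf => gen_range d hf) (gen_le d) hlt hnm _ (fun R ψ a hψ hlt' hRN ha hext => ?_)
      fun R f hf a hfa e he => ?_
    · exact H89.KeyCrit.mem_of_extend d.hS hPS hnm
        (fun R' h1 h2 => hup R' (h2.trans (H85.normalizerIn_le P))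
          (hkey ▸ key_mono h1 (h2.trans (H85.normalizerIn_le P))))
        (K := kGen d P) le_sup_right
        (fun b hb hord => coprime_kGen d (autGroup_le_naive d P hb) hord) hψ hlt' hRN ha hext
    · obtain ⟨hR, b, hb, hord, rfl⟩ := hf
      obtain rfl : b = a := MulEquiv.ext fun x => Subtype.ext (hfa x)
      refine coprime_kGen d (autGroup_le_naive d P
        (H85.congr_mem_autGroup he (coprime_mem_hs d hR hb hord))) ?_
      rwa [MulEquiv.orderOf_eq (MulAut.congr e) b]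
  refine ⟨P, hc, ⟨hPS, ?_⟩, hPS, fun Q φ hφ hr => ?_⟩
  · rw [haut]
    exact ⟨((H85.autInducedBy_isPGroup d.hS P).of_equiv (Subgroup.subgroupOfEquivOfLe
      (le_sup_right : autInducedBy S P ≤ kGen d P)).symm).toSylow hG.sylow, rfl⟩
  have hQS := H85.source_le hφ
  let e : Q ≃* P := H85.isoOf φ hφ hr
  have he : H85.IsFIso (prodSys d) e := H85.isFIso_isoOf φ hφ hr
  obtain ⟨χ, hχ, hχN, himg⟩ := hnm Q (H85.isConj_symm ⟨φ, hφ, hr⟩)
  have hQN := H85.le_normalizerIn (S := S) hQS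
  let τ : Q ≃* P := (H85.resIso χ ((prodSys d).injective_of_mem hχ) hQN).trans
    (MulEquiv.subgroupCongr himg)
  have hτ : H85.IsFIso (prodSys d) τ := H85.hom_congr (H85.restrict hχ hQN) fun _ => rfl
  set a : MulAut P := τ.symm.trans e with hadef
  have ha : a ∈ kGen d P := haut ▸ (H85.mem_autGroup hPS).2 (hτ.symm.trans he)
  set X := extender S Q φ with hXdef
  have hXN : X ≤ normalizerIn S Q := H85.extender_le_normalizerIn _ _
  have hQX : Q ≤ X := H85.le_extender hQS fun x => H85.map_mem hφ x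
  set M := H85.img χ X with hMdef
  have hPM : P ≤ M := himg.ge.trans (H85.img_mono χ hQX)
  have hMS : M ≤ S := H85.img_le hχ
  have hRS : autInducedBy M P ≤ autInducedBy S P := fun r hr => by
    obtain ⟨m, hm, hme⟩ := H85.mem_autInducedBy.1 hr
    exact H85.mem_autInducedBy.2 ⟨m, hMS hm, hme⟩
  have haR : ∀ r ∈ autInducedBy M P, a * r * a⁻¹ ∈ autInducedBy S P := by
    intro r hr'
    obtain ⟨m, hm, hme⟩ := H85.mem_autInducedBy.1 hr'
    obtain ⟨g, hg, rfl⟩ := H85.mem_img.1 hm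
    obtain ⟨-, -, h, hh, hhe⟩ := H85.mem_extender.1 hg
    refine H85.mem_autInducedBy.2 ⟨h, hh, fun y => ?_⟩
    obtain ⟨x, rfl⟩ := e.surjective y
    have h1 : a⁻¹ (e x) = τ x := a.injective (by
      rw [MulAut.apply_inv_self]
      show e x = e (τ.symm (τ x))
      rw [τ.symm_apply_apply])
    have hgx : (g : Ω) * x * (g : Ω)⁻¹ ∈ Q := H85.conj_mem_of_mem_normalizer (hXN hg).2 x.2
    rw [MulAut.mul_apply, MulAut.mul_apply, h1]
    have h2 : r (τ x) = τ ⟨_, hgx⟩ := Subtype.ext ((hme (τ x)).trans (by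
      show χ g * χ (Subgroup.inclusion hQN x) * (χ g)⁻¹ = χ (Subgroup.inclusion hQN ⟨_, hgx⟩)
      rw [← map_inv, ← map_mul, ← map_mul]
      rfl))
    rw [h2]
    show (e (τ.symm (τ ⟨_, hgx⟩)) : Ω) = h * φ x * h⁻¹
    rw [τ.symm_apply_apply]
    exact hhe x hgx
  obtain ⟨η, hη, hηe⟩ := hG.ext (H85.inn_le_autInducedBy hPM) hRS ha haR
  have hm : ∀ g : X, χ (Subgroup.inclusion hXN g) ∈ preim S P (autInducedBy M P) := fun g =>
    mem_preim.2 ⟨hχN _, H85.mem_autInducedBy.2 ⟨_, H85.apply_mem_img g.2, fun _ => rfl⟩⟩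
  refine ⟨_, (prodSys d).comp_mem (H85.restrict hχ hXN) hη hm, fun x hx hx' => ?_⟩
  show η ⟨χ ⟨x, _⟩, _⟩ = φ ⟨x, hx⟩
  refine Eq.trans ?_ ((hηe (τ ⟨x, hx⟩) (hm ⟨x, hx'⟩)).trans ?_)
  · rfl
  · show (e (τ.symm (τ ⟨x, hx⟩)) : Ω) = _
    rw [τ.symm_apply_apply]
    rfl

/-- The centric subgroups that are not admissible. -/
theorem star (d : Data p F E) {P : Subgroup Ω} (hPc : (prodSys d).IsCentric P) (hPH : P ∉ Hs d)
    (hup : ∀ R : Subgroup Ω, R ≤ S → key S T P < key S T R → Sat p (prodSys d) R) :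
    ∃ Q, (prodSys d).IsConj P Q ∧ ¬ (Cfsg.autInducedBy S Q ⊓
      (Cfsg.pCore p ↥((prodSys d).autGroup Q)).map ((prodSys d).autGroup Q).subtype ≤
        Cfsg.Inn Q) := by
  classical
  have := d.finT
  obtain ⟨Q, hc, hn, htop⟩ := exists_fn_over_top d hPc.1 hup
  have hQS := hn.1
  have : Finite Q := H85.finite_of_le hQS
  have hQc := H85.centric_of_isConj hPc hc
  have hC : ¬ centralizerIn S (Q ⊓ T) ≤ Q := by
    intro hC
    have hEc : E.IsCentric (Q ⊓ T) := H85.centric_of_receptive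
      (H85.receptive_of_fullyNormalized d.pT d.satE htop.fnE)
      fun x hx => ⟨hC ⟨d.le_base hx.1, hx.2⟩, hx.1⟩
    exact hPH (hs_conj_prodSys d _ (htop.mem_hs hEc hQS rfl hC) _ (H85.isConj_symm hc))
  set W := Q ⊔ centralizerIn S (Q ⊓ T) with hWdef
  have hlt : Q < W := lt_of_le_of_ne le_sup_left fun h => hC (le_sup_right.trans h.ge)
  obtain ⟨z, hz, hzN, hzQ⟩ := H85.exists_normalizing d.hS
    (sup_le hQS (H85.centralizerIn_le _)) hlt
  obtain ⟨q, hq, c, hcU, rfl⟩ := mem_sup_cent (le_normalizerIn_inf d hQS) hz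
  have hcN : c ∈ normalizerIn S Q := ⟨hcU.1, by
    have h := Subgroup.mul_mem _ (Subgroup.inv_mem _ (Subgroup.le_normalizer hq)) hzN
    rwa [inv_mul_cancel_left] at h⟩
  have hcQ : c ∉ Q := fun h => hzQ (mul_mem hq h)
  have hcS : H85.conjAut S Q ⟨c, hcN⟩ ∈ autInducedBy S Q :=
    H85.mem_autInducedBy.2 ⟨c, hcU.1, fun _ => rfl⟩
  refine ⟨Q, hc, fun hle => hcQ (H85.mem_of_induces_inner hQc hcU.1
    (hle ⟨hcS, ?_⟩) fun _ => rfl)⟩
  let A := (prodSys d).autGroup Q
  have hAU : ∀ a : A, ∀ x : Q, (x : Ω) ∈ T → (((a : MulAut Q) x : Q) : Ω) ∈ T := fun a x hx =>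
    (d.mapT (prodSys_sub d _ ((H85.mem_autGroup hQS).1 a.2)) x).2 hx
  let N : Subgroup A :=
    { carrier := {a | ∀ x : Q, (x : Ω) ∈ T → (a : MulAut Q) x = x}
      one_mem' := fun _ _ => rfl
      mul_mem' := fun {a b} ha hb x hx => by
        show (a : MulAut Q) ((b : MulAut Q) x) = x
        rw [hb x hx, ha x hx]
      inv_mem' := fun {a} ha x hx => (a : MulAut Q).injective (by
        rw [ha x hx]
        exact MulAut.apply_inv_self _ _ _) }
  have hNn : N.Normal := ⟨fun a ha b x hx => by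
    show (b : MulAut Q) ((a : MulAut Q) ((b : MulAut Q)⁻¹ x)) = x
    have h1 : ((((b : MulAut Q)⁻¹ x : Q)) : Ω) ∈ T := hAU b⁻¹ x hx
    rw [ha _ h1, MulAut.apply_inv_self]⟩
  have hNp : IsPGroup p N := by
    intro a
    have : Finite A := H85.finite_autGroup _ hQS
    obtain ⟨k, m, hm, hkm⟩ := Nat.exists_eq_pow_mul_and_not_dvd
      (orderOf_pos ((a : A) : MulAut Q)).ne' p (Fact.out (p := p.Prime)).ne_one
    refine ⟨k, Subtype.ext (Subtype.ext ?_)⟩
    set b : MulAut Q := ((a : A) : MulAut Q) ^ p ^ k with hbdef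
    show b = 1
    have hord : (orderOf b).Coprime p := by
      rw [hbdef, orderOf_pow_of_dvd (pow_ne_zero _ (Fact.out (p := p.Prime)).ne_zero)
        (hkm ▸ dvd_mul_right _ _), hkm,
        Nat.mul_div_cancel_left _ (pow_pos (Fact.out (p := p.Prime)).pos _)]
      exact ((Nat.Prime.coprime_iff_not_dvd Fact.out).2 hm).symm
    have hbN : (a : A) ^ p ^ k ∈ N := pow_mem a.2 _
    refine fixTriv_coprime (U := Q ⊓ T) d.hS hQS ⟨fun x hx => hbN x hx.2, ?_⟩ hord
    exact coprime_trivMod d hQS (autGroup_le_naive d Q ((a : A) ^ p ^ k).2) hord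
  have hcD : H85.conjAut S Q ⟨c, hcN⟩ ∈ A := H85.autInducedBy_le_autGroup _ hQS hcS
  refine ⟨⟨_, hcD⟩, (le_sSup (show N ∈ {N : Subgroup A | N.Normal ∧ IsPGroup p N} from
    ⟨hNn, hNp⟩) : N ≤ Cfsg.pCore p A) fun x hx => Subtype.ext ?_, rfl⟩
  have h1 := (H85.mem_centralizerIn.1 hcU).2 _ (show (x : Ω) ∈ Q ⊓ T from ⟨x.2, hx⟩)
  show c * (x : Ω) * c⁻¹ = x
  rw [← h1, mul_inv_cancel_right]

theorem isSaturated_prodSys (d : Data p F E) : (prodSys d).IsSaturated p :=
  H89.KeyCrit.isSaturated_of_key d.hS (prodSys d) (Gen d) (gen_sub d)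
    (fun _ _ hf => gen_range d hf) (gen_le d) (key S T) (fun _ _ h hT => key_mono h hT)
    (fun _ _ h => key_conj d h) (Hs d) (hs_conj_prodSys d) (fun _ _ hf => gen_hs d hf)
    (fun _ hP hPS hup => sat_hs d hP hPS hup) (fun _ hPc hPH hup => star d hPc hPH hup)

theorem subE_prodSys (d : Data p F E) : E.IsSubsystemOf (prodSys d) := fun _ _ hφ =>
  E_le d hφ fun R hR _ => isSaturated_prodSys d R hR

end H86.SE
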