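import Cfsg.Agent.H86.SE.Fix

/-! The extension of an automorphism of `E` of order prime to `p` to an overgroup `M C_S(U)` in the
normalizer of a fully normalized centric `U`. -/

set_option autoImplicit false
set_option linter.unusedSectionVars false

open Cfsg Cfsg.FusionSystem
open scoped Pointwise

namespace H86.SE

variable {Ω : Type*} [Group Ω] {S T : Subgroup Ω} [Finite S] {p : ℕ} [Fact p.Prime]
  {F : FusionSystem S} {E : FusionSystem T}

theorem mem_sup_cent {U M : Subgroup Ω} (hM : M ≤ normalizerIn S U) {x : Ω}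
    (hx : x ∈ M ⊔ centralizerIn S U) : ∃ m ∈ M, ∃ c ∈ centralizerIn S U, m * c = x := by
  have hn : M ≤ Subgroup.normalizer ((centralizerIn S U : Subgroup Ω) : Set Ω) := fun g hg => by
    refine Subgroup.mem_normalizer_iff.2 fun w => ?_
    have hgS : g ∈ S := (hM hg).1
    have hgU := (hM hg).2
    constructor
    · intro hw
      refine H85.mem_centralizerIn.2 ⟨S.mul_mem (S.mul_mem hgS hw.1) (S.inv_mem hgS), fun u hu => ?_⟩
      have h1 := (H85.mem_centralizerIn.1 hw).2 _ (H85.conj_mem_of_mem_normalizer' hgU hu)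
      calc u * (g * w * g⁻¹) = g * ((g⁻¹ * u * g) * w) * g⁻¹ := by group
        _ = g * (w * (g⁻¹ * u * g)) * g⁻¹ := by rw [h1]
        _ = g * w * g⁻¹ * u := by group
    · intro hw
      refine H85.mem_centralizerIn.2 ⟨?_, fun u hu => ?_⟩
      · have := S.mul_mem (S.mul_mem (S.inv_mem hgS) hw.1) hgS
        simpa [mul_assoc] using this
      · have h1 := (H85.mem_centralizerIn.1 hw).2 _ (H85.conj_mem_of_mem_normalizer hgU hu)
        calc u * w = g⁻¹ * ((g * u * g⁻¹) * (g * w * g⁻¹)) * g := by group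
          _ = g⁻¹ * ((g * w * g⁻¹) * (g * u * g⁻¹)) * g := by rw [h1]
          _ = w * u := by group
  have h : x ∈ ((M : Set Ω) * (centralizerIn S U : Set Ω) : Set Ω) := by
    rw [← Subgroup.coe_mul_of_left_le_normalizer_right M _ hn]
    exact hx
  exact h

/-- Iterating an automorphism which moves everything into `W` and moves `W` inside cosets of `V`. -/
theorem pow_trivMod {X V W : Subgroup Ω} [Finite X] (hWX : W ≤ X) {k : MulAut X}
    (hk : k ∈ trivMod W X) (hkW : ∀ x : X, (x : Ω) ∈ W → (x : Ω)⁻¹ * k x ∈ V)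
    (hV : ∀ x ∈ X, ∀ v ∈ V, x * v * x⁻¹ ∈ V) {n : ℕ} (hn : ∀ w ∈ W, w ^ n = 1) :
    k ^ n ∈ trivMod V X := by
  intro x
  set w := (x : Ω)⁻¹ * k x with hw
  have hwW : w ∈ W := hk x
  suffices H : ∀ i : ℕ, (w ^ i)⁻¹ * ((x : Ω)⁻¹ * ((k ^ i) x : Ω)) ∈ V by
    have h := H n
    rwa [hn w hwW, inv_one, one_mul] at h
  intro i
  induction i with
  | zero => simp
  | succ i ih =>
    set u : X := x⁻¹ * (k ^ i) x with hu
    have hucoe : (u : Ω) = (x : Ω)⁻¹ * ((k ^ i) x : Ω) := by simp [hu]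
    have huW : (u : Ω) ∈ W := by
      rw [hucoe]
      exact (trivMod W X).pow_mem hk i x
    have h1 : ((k ^ (i + 1)) x : Ω) = (k x : Ω) * k u := by
      rw [pow_succ', MulAut.mul_apply, show (k ^ i) x = x * u by simp [hu], map_mul,
        Subgroup.coe_mul]
    rw [← hucoe] at ih
    have hwiX : (w ^ i)⁻¹ ∈ X := X.inv_mem (X.pow_mem (hWX hwW) i)
    have h2 : (w ^ (i + 1))⁻¹ * ((x : Ω)⁻¹ * ((k ^ (i + 1)) x : Ω)) =
        ((w ^ i)⁻¹ * (u : Ω)) * ((u : Ω)⁻¹ * k u) := by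
      rw [h1, pow_succ', show (k x : Ω) = (x : Ω) * w by rw [hw]; group]
      group
    rw [h2]
    exact V.mul_mem ih (hkW u huW)

set_option maxHeartbeats 1000000 in
/-- The extension lemma. -/
theorem exists_core (d : Data p F E) {U : Subgroup Ω} (hU : F.IsFullyNormalized U)
    (hc : E.IsCentric U) {M : Subgroup Ω} (hM : M ≤ normalizerIn S U) (hUM : U ≤ M)
    (hMT : ∀ m : normalizerIn S U, (m : Ω) ∈ M → H85.conjAut S U m ∈ E.autGroup U →
      ∃ v ∈ M ⊓ T, ∀ x : U, v * (x : Ω) * v⁻¹ = m * (x : Ω) * (m : Ω)⁻¹)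
    {α : MulAut U} (hα : α ∈ E.autGroup U) (hord : (orderOf α).Coprime p)
    (hnorm : ∀ m ∈ M, ∃ m' ∈ M, ∀ x : U, ∀ hx : m * ((α⁻¹ x : U) : Ω) * m⁻¹ ∈ U,
      (α ⟨_, hx⟩ : Ω) = m' * (x : Ω) * m'⁻¹) :
    ∃ f ∈ F.autGroup (M ⊔ centralizerIn S U), (orderOf f).Coprime p ∧
      f ∈ trivMod (M ⊓ T) (M ⊔ centralizerIn S U) ∧
      (∀ x : U, (f (Subgroup.inclusion (hUM.trans le_sup_left) x) : Ω) = α x) ∧
      ∀ c : ↥(M ⊔ centralizerIn S U), (c : Ω) ∈ centralizerIn S U → (c : Ω)⁻¹ * f c ∈ U := by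
  have hUT := hc.1
  have hUS := hU.1
  have hMS : M ≤ S := hM.trans (H85.normalizerIn_le U)
  set C := centralizerIn S U with hCdef
  set Y := pc S U with hYdef
  set X := M ⊔ C with hXdef
  have hYS : Y ≤ S := pc_le hUS
  have hXN : X ≤ normalizerIn S U := sup_le hM (H85.centralizerIn_le_normalizerIn U)
  have hXS : X ≤ S := hXN.trans (H85.normalizerIn_le U)
  have hYX : Y ≤ X := sup_le (hUM.trans le_sup_left) le_sup_right
  have hUY : U ≤ Y := le_sup_left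
  have : Finite U := H85.finite_of_le hUS
  have : Finite Y := H85.finite_of_le hYS
  have : Finite X := H85.finite_of_le hXS
  obtain ⟨f₀, hf₀, hf₀t, hf₀e⟩ := extAt_normal d.hS d.hE hc α hα
  have hf₀i : ∀ x : U, ((f₀⁻¹ (Subgroup.inclusion hUY x) : Y) : Ω) = (α⁻¹ x : U) := by
    intro x
    have h : f₀ (Subgroup.inclusion hUY (α⁻¹ x)) = Subgroup.inclusion hUY x := Subtype.ext
      ((hf₀e _).trans (congrArg Subtype.val (MulAut.apply_inv_self _ α x)))
    rw [← h, MulAut.inv_apply_self]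
    rfl
  have hYc : F.IsCentric Y :=
    centric_pc (H85.fullyCentralized_of_fullyNormalized d.hS d.satF hU)
  have hYr : F.IsReceptive Y :=
    H85.receptive_of_fullyCentralized d.hS d.satF (H85.centric_fullyCentralized hYc)
  have hCY : centralizerIn S Y ≤ C := centralizerIn_pc_le U
  -- each element of `M` can be followed
  have hfollow : ∀ m ∈ M, ∃ s, (∃ v ∈ M ⊓ T, ∃ h ∈ C, s = h * (v * m)) ∧
      ∀ (y : Y) (hy : m * (y : Ω) * m⁻¹ ∈ Y), (f₀ ⟨_, hy⟩ : Ω) = s * (f₀ y : Ω) * s⁻¹ := by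
    intro m hm
    obtain ⟨m', hm', hmm'⟩ := hnorm m hm
    have hmN : m ∈ normalizerIn S U := hM hm
    have hm'N : m' ∈ normalizerIn S U := hM hm'
    let cm := H85.conjAut S U ⟨m, hmN⟩
    let cm' := H85.conjAut S U ⟨m', hm'N⟩
    have hconj : α * cm * α⁻¹ = cm' := by
      refine MulEquiv.ext fun x => Subtype.ext ?_
      exact (congrArg (fun z => (α z : Ω)) (Subtype.ext rfl)).trans
        (hmm' x (H85.conj_mem_of_mem_normalizer hmN.2 (α⁻¹ x).2))
    have hcmF : H85.IsFIso F cm :=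
      (H85.mem_autGroup hUS).1 (conjAut_mem F hUS ⟨m, hmN⟩)
    have hEm : H85.conjAut S U ⟨m' * m⁻¹, mul_mem hm'N (inv_mem hmN)⟩ ∈ E.autGroup U := by
      have h1 : cm * α⁻¹ * cm⁻¹ ∈ E.autGroup U := by
        rw [← H85.congr_eq_conj]
        exact eaut_congr d hUT hcmF (inv_mem hα)
      have h2 : H85.conjAut S U ⟨m' * m⁻¹, mul_mem hm'N (inv_mem hmN)⟩ =
          α * (cm * α⁻¹ * cm⁻¹) := by
        rw [show (⟨m' * m⁻¹, mul_mem hm'N (inv_mem hmN)⟩ : normalizerIn S U) =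
          ⟨m', hm'N⟩ * ⟨m, hmN⟩⁻¹ from rfl, map_mul, map_inv, ← mul_assoc, ← mul_assoc]
        show cm' * cm⁻¹ = _
        rw [hconj]
      rw [h2]
      exact mul_mem hα h1
    obtain ⟨v, hv, hvm⟩ := hMT _ (mul_mem hm' (inv_mem hm)) hEm
    have hvU : ∀ x : U, m' * (x : Ω) * m'⁻¹ = v * m * (x : Ω) * (v * m)⁻¹ := fun x => by
      have h1 := hvm ⟨m * (x : Ω) * m⁻¹, H85.conj_mem_of_mem_normalizer hmN.2 x.2⟩
      calc m' * (x : Ω) * m'⁻¹
          = m' * m⁻¹ * (m * (x : Ω) * m⁻¹) * (m' * m⁻¹)⁻¹ := by group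
        _ = v * (m * (x : Ω) * m⁻¹) * v⁻¹ := h1.symm
        _ = v * m * (x : Ω) * (v * m)⁻¹ := by group
    have hvmN : v * m ∈ normalizerIn S U := hM (M.mul_mem hv.1 hm)
    have hNY : ∀ g ∈ normalizerIn S U, g ∈ normalizerIn S Y := fun g hg =>
      ⟨hg.1, (pc_le_normalizerIn_self hUS hg).2⟩
    let cy := H85.conjAut S Y ⟨m, hNY m hmN⟩
    let cy' := H85.conjAut S Y ⟨v * m, hNY _ hvmN⟩
    let k : MulAut Y := f₀ * cy * f₀⁻¹ * cy'⁻¹
    have hcyF : ∀ g : normalizerIn S Y, H85.conjAut S Y g ∈ F.autGroup Y := conjAut_mem F hYS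
    have hk : k ∈ F.autGroup Y :=
      mul_mem (mul_mem (mul_mem hf₀ (hcyF _)) (inv_mem hf₀)) (inv_mem (hcyF _))
    have hkf : k ∈ fixTriv U Y := by
      refine ⟨fun y hy => ?_, ?_⟩
      · obtain ⟨z, hz⟩ := cy'.surjective y
        have hzU : (z : Ω) ∈ U := by
          have h1 : (v * m) * (z : Ω) * (v * m)⁻¹ = (y : Ω) := congrArg Subtype.val hz
          have h2 := H85.conj_mem_of_mem_normalizer' hvmN.2 hy
          rw [← h1] at h2
          simpa [mul_assoc] using h2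
        rw [← hz]
        show (f₀ * cy * f₀⁻¹ * cy'⁻¹) (cy' z) = cy' z
        rw [MulAut.mul_apply, MulAut.inv_apply_self, MulAut.mul_apply, MulAut.mul_apply]
        refine Subtype.ext ?_
        have hmz : m * ((α⁻¹ ⟨z, hzU⟩ : U) : Ω) * m⁻¹ ∈ U :=
          H85.conj_mem_of_mem_normalizer hmN.2 (α⁻¹ ⟨(z : Ω), hzU⟩).2
        rw [show cy (f₀⁻¹ z) = Subgroup.inclusion hUY ⟨_, hmz⟩ from Subtype.ext (by
          show m * ((f₀⁻¹ z : Y) : Ω) * m⁻¹ = m * ((α⁻¹ ⟨z, hzU⟩ : U) : Ω) * m⁻¹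
          rw [← hf₀i]; rfl)]
        rw [hf₀e, hmm', hvU]
        rfl
      · have hcm : ∀ y : Y, (y : Ω) ∈ U → ((cy y : Y) : Ω) ∈ U :=
          fun y hy => H85.conj_mem_of_mem_normalizer hmN.2 hy
        have h1 : cy * f₀⁻¹ * cy⁻¹ ∈ trivMod U Y := fun y => by
          have h2 := hcm ((cy⁻¹ y)⁻¹ * f₀⁻¹ (cy⁻¹ y)) ((trivMod U Y).inv_mem hf₀t (cy⁻¹ y))
          rw [map_mul, map_inv, MulAut.apply_inv_self] at h2
          exact h2
        have h3 : cy * cy'⁻¹ ∈ trivMod U Y := fun y => by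
          obtain ⟨z, hz⟩ := cy'.surjective y
          rw [← hz, MulAut.mul_apply, MulAut.inv_apply_self]
          show (v * m * (z : Ω) * (v * m)⁻¹)⁻¹ * (m * (z : Ω) * m⁻¹) ∈ U
          have hmzY : m * (z : Ω) * m⁻¹ ∈ Y := (cy z).2
          have hvY : v * (m * (z : Ω) * m⁻¹) * v⁻¹ ∈ Y := by
            have h4 := (cy' z).2
            rwa [show v * (m * (z : Ω) * m⁻¹) * v⁻¹ = v * m * (z : Ω) * (v * m)⁻¹ by group]
          refine inf_pc_le hc ?_ (Y.mul_mem (Y.inv_mem (cy' z).2) hmzY)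
          have h5 := T.mul_mem hv.2 (d.conjT (S.inv_mem (hYS hmzY)) (T.inv_mem hv.2))
          show (v * m * (z : Ω) * (v * m)⁻¹)⁻¹ * (m * (z : Ω) * m⁻¹) ∈ T
          rwa [show (v * m * (z : Ω) * (v * m)⁻¹)⁻¹ * (m * (z : Ω) * m⁻¹) =
            v * (m * (z : Ω) * m⁻¹)⁻¹ * v⁻¹ * (m * (z : Ω) * m⁻¹) by group,
            show v * (m * (z : Ω) * m⁻¹)⁻¹ * v⁻¹ * (m * (z : Ω) * m⁻¹) =
            v * ((m * (z : Ω) * m⁻¹)⁻¹ * v⁻¹ * (m * (z : Ω) * m⁻¹)⁻¹⁻¹) by group]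
        rw [show k = f₀ * (cy * f₀⁻¹ * cy⁻¹) * (cy * cy'⁻¹) by simp only [k]; group]
        exact (trivMod U Y).mul_mem ((trivMod U Y).mul_mem hf₀t h1) h3
    obtain ⟨h, hh, hhk⟩ := exists_induced_fix d.hS d.satF hU hk hkf
    refine ⟨h * (v * m), ⟨v, hv, h, hh, rfl⟩, fun y hy => ?_⟩
    have h1 : k (cy' (f₀ y)) = f₀ (cy y) := by
      show (f₀ * cy * f₀⁻¹ * cy'⁻¹) (cy' (f₀ y)) = f₀ (cy y)
      rw [MulAut.mul_apply, MulAut.inv_apply_self, MulAut.mul_apply, MulAut.mul_apply,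
        MulAut.inv_apply_self]
    refine (congrArg Subtype.val (show f₀ ⟨_, hy⟩ = f₀ (cy y) from congrArg f₀ (Subtype.ext rfl))).trans ?_
    rw [← h1, hhk]
    show h * (v * m * (f₀ y : Ω) * (v * m)⁻¹) * h⁻¹ = _
    group
  -- the extension to `X`
  have hf₀F : H85.IsFIso F f₀ := (H85.mem_autGroup hYS).1 hf₀
  obtain ⟨ψ, hψ, hψe⟩ := H85.receptive_extend hYr hf₀F
  have hXe : X ≤ extender S Y (Y.subtype.comp f₀.toMonoidHom) := by
    refine sup_le (fun m hm => ?_)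
      ((le_sup_right : C ≤ Y).trans (H85.le_extender hYS fun x => H85.map_mem hf₀F x))
    obtain ⟨s, ⟨v, hv, h, hh, rfl⟩, hs⟩ := hfollow m hm
    exact H85.mem_extender.2 ⟨hMS hm, (pc_le_normalizerIn_self hUS (hM hm)).2, _,
      mul_mem hh.1 (mul_mem (hMS hv.1) (hMS hm)), fun y hy => hs y hy⟩
  have hYe : Y ≤ extender S Y (Y.subtype.comp f₀.toMonoidHom) := hYX.trans hXe
  have hψY : ∀ (y : X) (hy : (y : Ω) ∈ Y),
      ψ (Subgroup.inclusion hXe y) = (f₀ ⟨y, hy⟩ : Ω) := fun y hy => hψe y hy (hXe y.2)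
  set V := M ⊓ T with hVdef
  have hVX : V ≤ X := inf_le_left.trans le_sup_left
  have hTX : ∀ x ∈ X, x ∈ T → x ∈ V := by
    intro x hx hxT
    obtain ⟨m, hm, c, hc', rfl⟩ := mem_sup_cent hM hx
    have hmN := hM hm
    have hE : H85.conjAut S U ⟨m, hmN⟩ ∈ E.autGroup U := by
      refine H85.autInducedBy_le_autGroup E hUT
        (H85.mem_autInducedBy.2 ⟨m * c, hxT, fun u => ?_⟩)
      show m * (u : Ω) * m⁻¹ = _
      have h1 := (H85.mem_centralizerIn.1 hc').2 u u.2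
      calc m * (u : Ω) * m⁻¹ = m * ((u : Ω) * c) * c⁻¹ * m⁻¹ := by group
        _ = m * (c * (u : Ω)) * c⁻¹ * m⁻¹ := by rw [h1]
        _ = m * c * (u : Ω) * (m * c)⁻¹ := by group
    obtain ⟨v, hv, hvm⟩ := hMT ⟨m, hmN⟩ hm hE
    have hw : v⁻¹ * (m * c) ∈ centralizerIn S U := by
      refine H85.mem_centralizerIn.2 ⟨mul_mem (inv_mem (hMS hv.1)) (hXS hx), fun u hu => ?_⟩
      have h1 : v * u * v⁻¹ = m * u * m⁻¹ := hvm ⟨u, hu⟩
      have h2 := (H85.mem_centralizerIn.1 hc').2 u hu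
      calc u * (v⁻¹ * (m * c)) = v⁻¹ * (v * u * v⁻¹) * (m * c) := by group
        _ = v⁻¹ * m * (u * c) := by rw [h1]; group
        _ = v⁻¹ * m * (c * u) := by rw [h2]
        _ = v⁻¹ * (m * c) * u := by group
    have hwU : v⁻¹ * (m * c) ∈ U := inf_pc_le hc (T.mul_mem (T.inv_mem hv.2) hxT)
      (Subgroup.mem_sup_right hw)
    have h3 := V.mul_mem hv (⟨hUM hwU, hUT hwU⟩ : v⁻¹ * (m * c) ∈ V)
    rwa [mul_inv_cancel_left] at h3
  have hVn : ∀ x ∈ X, ∀ v ∈ V, x * v * x⁻¹ ∈ V := fun x hx v hv =>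
    hTX _ (X.mul_mem (X.mul_mem hx (hVX hv)) (X.inv_mem hx)) (d.conjT (hXS hx) hv.2)
  set W := V ⊔ C with hWdef
  have hWX : W ≤ X := sup_le hVX le_sup_right
  have hXnW : X ≤ Subgroup.normalizer (W : Set Ω) := by
    intro x hx
    have : Finite W := H85.finite_of_le (hWX.trans hXS)
    refine H85.mem_normalizer_of_conj fun w hw => ?_
    have h : (MulAut.conj x).toMonoidHom w ∈ W := by
      have hle : W.map (MulAut.conj x).toMonoidHom ≤ W := by
        rw [hWdef, Subgroup.map_sup]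
        refine sup_le ?_ ?_
        · rintro _ ⟨v, hv, rfl⟩
          exact Subgroup.mem_sup_left (hVn x hx v hv)
        · rintro _ ⟨c, hc', rfl⟩
          refine Subgroup.mem_sup_right (H85.mem_centralizerIn.2
            ⟨mul_mem (mul_mem (hXS hx) hc'.1) (inv_mem (hXS hx)), fun u hu => ?_⟩)
          have h1 := (H85.mem_centralizerIn.1 hc').2 _
            (H85.conj_mem_of_mem_normalizer' (hXN hx).2 hu)
          show u * (x * c * x⁻¹) = x * c * x⁻¹ * u
          calc u * (x * c * x⁻¹) = x * ((x⁻¹ * u * x) * c) * x⁻¹ := by group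
            _ = x * (c * (x⁻¹ * u * x)) * x⁻¹ := by rw [h1]
            _ = x * c * x⁻¹ * u := by group
      exact hle ⟨w, hw, rfl⟩
    exact h
  -- `ψ` moves the generators inside cosets of `W`
  have hmove : ∀ m (hm : m ∈ M),
      m⁻¹ * ψ (Subgroup.inclusion hXe ⟨m, Subgroup.mem_sup_left hm⟩) ∈ W := by
    intro m hm
    obtain ⟨s, ⟨v, hv, h, hh, rfl⟩, hs⟩ := hfollow m hm
    set z := ψ (Subgroup.inclusion hXe ⟨m, Subgroup.mem_sup_left hm⟩) with hz
    have hzC : (h * (v * m))⁻¹ * z ∈ C := by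
      refine hCY (H85.mem_centralizerIn.2 ⟨mul_mem (inv_mem (mul_mem hh.1
        (mul_mem (hMS hv.1) (hMS hm)))) (H85.map_mem hψ _), fun y hy => ?_⟩)
      obtain ⟨y', hy'⟩ := f₀.surjective ⟨y, hy⟩
      have hmy : m * (y' : Ω) * m⁻¹ ∈ Y :=
        H85.conj_mem_of_mem_normalizer (pc_le_normalizerIn_self hUS (hM hm)).2 y'.2
      have h1 := hs y' hmy
      have h2 := H85.extend_conj (e := (f₀ : Y ≃* Y)) hYe (fun x => hψe x x.2 _)
        (g := Subgroup.inclusion hXe ⟨m, Subgroup.mem_sup_left hm⟩) (x := y') hmy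
      rw [show (f₀ y' : Ω) = y from congrArg Subtype.val hy'] at h1 h2
      have h3 : h * (v * m) * y * (h * (v * m))⁻¹ = z * y * z⁻¹ := h1.symm.trans h2
      calc y * ((h * (v * m))⁻¹ * z)
          = (h * (v * m))⁻¹ * (h * (v * m) * y * (h * (v * m))⁻¹) * z := by group
        _ = (h * (v * m))⁻¹ * z * y := by rw [h3]; group
    have h1 := H85.conj_mem_of_mem_normalizer' (hXnW (Subgroup.mem_sup_left hm))
      (W.mul_mem (Subgroup.mem_sup_right hh) (Subgroup.mem_sup_left hv))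
    have h2 := W.mul_mem h1 (Subgroup.mem_sup_right hzC)
    rwa [show m⁻¹ * (h * v) * m * ((h * (v * m))⁻¹ * z) = m⁻¹ * z by group] at h2
  have hXψ : ∀ x : X, ψ (Subgroup.inclusion hXe x) ∈ X := by
    intro x
    obtain ⟨m, hm, c, hc', hx⟩ := mem_sup_cent hM x.2
    have hx' : x = (⟨m, Subgroup.mem_sup_left hm⟩ : X) * ⟨c, Subgroup.mem_sup_right hc'⟩ :=
      Subtype.ext hx.symm
    rw [hx', map_mul, map_mul]
    refine X.mul_mem ?_ ?_
    · have h1 := X.mul_mem (show m ∈ X from Subgroup.mem_sup_left hm) (hWX (hmove m hm))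
      rwa [mul_inv_cancel_left] at h1
    · rw [hψY _ (Subgroup.mem_sup_right hc')]
      exact hYX (SetLike.coe_mem _)
  have hψX := H85.restrict hψ hXe
  have hr : (ψ.comp (Subgroup.inclusion hXe)).range = X :=
    range_eq_self_of_le F hψX (by rintro _ ⟨x, rfl⟩; exact hXψ x)
  set f₁ : MulAut X := autOfHom _ (F.injective_of_mem hψX) hr with hf₁def
  have hf₁ : f₁ ∈ F.autGroup X := autOfHom_mem F hψX hr
  have hf₁v : ∀ x : X, (f₁ x : Ω) = ψ (Subgroup.inclusion hXe x) := fun _ => rfl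
  have hCf : ∀ x : X, (x : Ω) ∈ C → (x : Ω)⁻¹ * f₁ x ∈ U := fun x hx => by
    rw [hf₁v, hψY x (Subgroup.mem_sup_right hx)]
    exact hf₀t ⟨x, Subgroup.mem_sup_right hx⟩
  have hf₁W : f₁ ∈ trivMod W X :=
    trivMod_of_sup hXnW le_rfl le_sup_left le_sup_right
      (fun x hx => by rw [hf₁v]; exact hmove x hx)
      fun x hx => Subgroup.mem_sup_left ⟨hUM (hCf x hx), hUT (hCf x hx)⟩
  obtain ⟨k', -, hk't, -, hk'e⟩ := exists_res_trivMod hXS hf₁ hf₁W le_rfl hWX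
  have hk'V : k' ∈ trivMod V W := by
    refine trivMod_of_sup (fun w hw => ?_) le_rfl le_sup_left le_sup_right (fun x hx => ?_)
      fun x hx => ?_
    · have : Finite V := H85.finite_of_le (hVX.trans hXS)
      exact H85.mem_normalizer_of_conj fun v hv => hVn w (hWX hw) v hv
    · rw [hk'e, hf₁v]
      refine V.mul_mem (V.inv_mem hx) (hTX _ (hXψ _) ?_)
      exact (d.mapT hψX _).2 hx.2
    · rw [hk'e]
      exact ⟨hUM (hCf (Subgroup.inclusion hWX x) hx), hUT (hCf (Subgroup.inclusion hWX x) hx)⟩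
  obtain ⟨N, hN⟩ := IsPGroup.iff_card.1 d.hS
  have hpow : f₁ ^ p ^ N ∈ trivMod V X := by
    refine pow_trivMod hWX hf₁W (fun x hx => ?_) hVn fun w hw => ?_
    · have h := hk'V ⟨x, hx⟩
      rw [hk'e] at h
      exact h
    · rw [← hN]
      exact congrArg Subtype.val (pow_card_eq_one' (x := (⟨w, hXS (hWX hw)⟩ : S)))
  obtain ⟨n, hn, hαn⟩ := exists_exp_coprime (p := p) f₁ α hord
  have hpowU : ∀ (i : ℕ) (x : U),
      ((f₁ ^ i) (Subgroup.inclusion (hUM.trans le_sup_left) x) : Ω) = ((α ^ i) x : Ω) := by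
    intro i
    induction i with
    | zero => intro x; rfl
    | succ i ih =>
      intro x
      rw [pow_succ', pow_succ', MulAut.mul_apply, MulAut.mul_apply,
        show (f₁ ^ i) (Subgroup.inclusion (hUM.trans le_sup_left) x) =
          Subgroup.inclusion (hUM.trans le_sup_left) ((α ^ i) x) from Subtype.ext (ih x),
        hf₁v, hψY _ (hUY ((α ^ i) x).2)]
      exact hf₀e _
  have hpowY : ∀ (i : ℕ) (y : Y), ((f₁ ^ i) (Subgroup.inclusion hYX y) : Ω) = ((f₀ ^ i) y : Ω) := by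
    intro i
    induction i with
    | zero => intro y; rfl
    | succ i ih =>
      intro y
      rw [pow_succ', pow_succ', MulAut.mul_apply, MulAut.mul_apply,
        show (f₁ ^ i) (Subgroup.inclusion hYX y) = Subgroup.inclusion hYX ((f₀ ^ i) y) from
          Subtype.ext (ih y), hf₁v, hψY _ ((f₀ ^ i) y).2]
      rfl
  refine ⟨f₁ ^ n, pow_mem hf₁ n, hn, ?_, fun x => by rw [hpowU, hαn], fun c hc' => ?_⟩
  · obtain ⟨j, hj⟩ := exists_pow_eq_self_of_coprime
      (show Nat.Coprime (p ^ N) (orderOf (f₁ ^ n)) from Nat.Coprime.pow_left N hn.symm)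
    rw [← hj, show ((f₁ ^ n) ^ p ^ N) ^ j = ((f₁ ^ p ^ N) ^ n) ^ j by
      simp only [← pow_mul]; congr 1; ring]
    exact (trivMod V X).pow_mem ((trivMod V X).pow_mem hpow n) j
  · have hcY : (c : Ω) ∈ Y := Subgroup.mem_sup_right hc'
    rw [show c = Subgroup.inclusion hYX ⟨c, hcY⟩ from Subtype.ext rfl, hpowY]
    exact (trivMod U Y).pow_mem hf₀t n ⟨c, hcY⟩

end H86.SE
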