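import Cfsg.Agent.H86.SE.Lift

/-! The defect at an admissible subgroup: centrality and stability modulo the inner part. -/

set_option autoImplicit false
set_option linter.unusedSectionVars false

open Cfsg Cfsg.FusionSystem

namespace H86.SE

variable {Ω : Type*} [Group Ω] {S T : Subgroup Ω} [Finite S] {p : ℕ} [Fact p.Prime]
  {F : FusionSystem S} {E : FusionSystem T}

/-- A transport of `P` to a fully normalized position over a fully normalized part in `T`. -/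
structure Tr (d : Data p F E) (P : Subgroup Ω) where
  P' : Subgroup Ω
  e : P ≃* P'
  χ : normalizerIn S P →* Ω
  hU : F.IsFullyNormalized (P' ⊓ T)
  fn : (H85.normalizerSystem F (P' ⊓ T) hU.1).IsFullyNormalized P'
  hχ : χ ∈ F.Hom (normalizerIn S P)
  mapN : ∀ g, χ g ∈ normalizerIn S P'
  he : H85.IsFIso F e
  ext : ∀ (x : P) (hx : (x : Ω) ∈ normalizerIn S P), χ ⟨x, hx⟩ = e x

theorem norm_inf (d : Data p F E) {P : Subgroup Ω} (hP : P ≤ S) :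
    normalizerIn S P ≤ normalizerIn S (P ⊓ T) := by
  intro g hg
  have : Finite ↥(P ⊓ T) := H85.finite_of_le (inf_le_left.trans hP)
  exact ⟨hg.1, H85.mem_normalizer_of_conj fun x hx =>
    ⟨H85.conj_mem_of_mem_normalizer hg.2 hx.1, d.conjT hg.1 hx.2⟩⟩

theorem exists_tr (d : Data p F E) {P : Subgroup Ω} (hP : P ≤ S) : Nonempty (Tr d P) := by
  have := d.finT
  have hUS : P ⊓ T ≤ S := inf_le_left.trans hP
  have : Finite P := H85.finite_of_le hP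
  obtain ⟨U', hUU', hU'⟩ := H85.exists_fullyNormalized F hUS
  obtain ⟨χ₁, hχ₁, hχ₁N, himg₁⟩ := H85.exists_map_to_fullyNormalized d.hS d.satF hU' hUU'
  have hPN : P ≤ normalizerIn S P := H85.le_normalizerIn hP
  have hNU := norm_inf d hP
  set P₁ := H85.img χ₁ P with hP₁
  have hP₁N : P₁ ≤ normalizerIn S U' := by
    intro y hy
    obtain ⟨x, -, rfl⟩ := H85.mem_img.1 hy
    exact hχ₁N x
  have hP₁T : P₁ ⊓ T = U' := by
    refine le_antisymm (fun y hy => ?_) ?_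
    · obtain ⟨x, hx, rfl⟩ := H85.mem_img.1 hy.1
      exact himg₁.le (H85.apply_mem_img ⟨hx, (d.mapT hχ₁ x).1 hy.2⟩)
    · rw [← himg₁]
      intro y hy
      obtain ⟨x, hx, rfl⟩ := H85.mem_img.1 hy
      exact ⟨H85.apply_mem_img hx.1, (d.mapT hχ₁ x).2 hx.2⟩
  have : Finite (normalizerIn S U') := H85.finite_of_le (H85.normalizerIn_le U')
  have hN := H85.isSaturated_normalizerSystem d.hS d.satF hU' _
    (H85.normalizerSystem_spec F U' hU'.1)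
  have hNp : IsPGroup p (normalizerIn S U') := d.hS.to_le (H85.normalizerIn_le U')
  obtain ⟨P', hPP', hP'⟩ := H85.exists_fullyNormalized (H85.normalizerSystem F U' hU'.1) hP₁N
  obtain ⟨χ₂, hχ₂, hχ₂N, himg₂⟩ := H85.exists_map_to_fullyNormalized hNp hN hP' hPP'
  have : Finite P₁ := H85.finite_of_le (hP₁N.trans (H85.normalizerIn_le U'))
  have hval : ∀ g : normalizerIn S P, χ₁ (Subgroup.inclusion hNU g) ∈
      normalizerIn (normalizerIn S U') P₁ := fun g =>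
    ⟨hχ₁N _, H85.extend_maps_normalizer (e := H85.resIso χ₁ (F.injective_of_mem hχ₁) (hPN.trans hNU))
      (hPN.trans hNU) (fun _ => rfl) (g := Subgroup.inclusion hNU g) g.2.2⟩
  obtain ⟨hχ₂F, -, -, ψ, -, hψe, hψU⟩ := H85.mem_normalizerHom.1 hχ₂
  have hP'T : P' ⊓ T = U' := by
    refine le_antisymm (fun y hy => ?_) ?_
    · obtain ⟨x, hx, rfl⟩ := H85.mem_img.1 (himg₂.ge hy.1)
      have hxU : (x : Ω) ∈ U' := hP₁T.le ⟨hx, (d.mapT hχ₂F x).1 hy.2⟩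
      rw [← hψe x]
      exact hψU.le (H85.apply_mem_img (φ := ψ) (x := Subgroup.inclusion le_sup_left x) hxU)
    · intro y hy
      obtain ⟨z, hz, rfl⟩ := H85.mem_img.1 (hψU.ge hy)
      have hzP : (z : Ω) ∈ P₁ := (hP₁T.ge hz).1
      have hzN : (z : Ω) ∈ normalizerIn (normalizerIn S U') P₁ := H85.le_normalizerIn hP₁N hzP
      have h1 : ψ z = χ₂ ⟨z, hzN⟩ :=
        (congrArg ψ (Subtype.ext rfl)).trans (hψe ⟨z, hzN⟩)
      rw [h1]
      exact ⟨himg₂.le (H85.apply_mem_img hzP), (d.mapT hχ₂F _).2 (hP₁T.ge hz).2⟩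
  let χ : normalizerIn S P →* Ω :=
    χ₂.comp ((χ₁.comp (Subgroup.inclusion hNU)).codRestrict _ hval)
  have hχ : χ ∈ F.Hom (normalizerIn S P) := F.comp_mem (H85.restrict hχ₁ hNU) hχ₂F hval
  have himg : H85.img χ P = P' := by
    rw [show χ = χ₂.comp ((χ₁.comp (Subgroup.inclusion hNU)).codRestrict _ hval) from rfl,
      H85.img_img hval (H85.restrict hχ₁ hNU),
      H85.img_congr (U := P) (T := normalizerIn S (P ⊓ T)) (ψ := χ₁) hPN (hPN.trans hNU)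
        (fun x => rfl), himg₂]
  subst hP'T
  exact ⟨⟨P', (H85.resIso χ (F.injective_of_mem hχ) hPN).trans (MulEquiv.subgroupCongr himg), χ,
    hU', hP', hχ, fun g => ⟨H85.map_mem hχ g, (hχ₂N _).2⟩,
    H85.hom_congr (H85.restrict hχ hPN) fun _ => rfl,
    fun x _ => congrArg χ (Subtype.ext rfl)⟩⟩

namespace Tr

variable {d : Data p F E} {P : Subgroup Ω} (τ : Tr d P)

theorem le_N : τ.P' ≤ normalizerIn S (τ.P' ⊓ T) := τ.fn.1

theorem le_S : τ.P' ≤ S := τ.le_N.trans (H85.normalizerIn_le _)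

theorem mem_inf (x : P) : (τ.e x : Ω) ∈ τ.P' ⊓ T ↔ (x : Ω) ∈ P ⊓ T :=
  ⟨fun h => ⟨x.2, (d.mapT τ.he x).1 h.2⟩, fun h => ⟨(τ.e x).2, (d.mapT τ.he x).2 h.2⟩⟩

/-- The transport on the parts in `T`. -/
def eU : ↥(P ⊓ T) ≃* ↥(τ.P' ⊓ T) :=
  H85.subEquiv τ.e inf_le_left inf_le_left τ.mem_inf

theorem heU : H85.IsFIso F τ.eU := H85.isFIso_subEquiv τ.he _ _ _

theorem congr_fixTriv {k : MulAut P} (hk : k ∈ fixTriv (P ⊓ T) P) :
    MulAut.congr τ.e k ∈ fixTriv (τ.P' ⊓ T) τ.P' := by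
  refine ⟨fun y hy => ?_, fun y => ?_⟩
  · obtain ⟨x, rfl⟩ := τ.e.surjective y
    show τ.e (k (τ.e.symm (τ.e x))) = τ.e x
    rw [τ.e.symm_apply_apply, hk.1 x ((τ.mem_inf x).1 hy)]
  · obtain ⟨x, rfl⟩ := τ.e.surjective y
    show (τ.e x : Ω)⁻¹ * (τ.e (k (τ.e.symm (τ.e x))) : Ω) ∈ τ.P' ⊓ T
    rw [τ.e.symm_apply_apply]
    have h := (τ.mem_inf (x⁻¹ * k x)).2 (hk.2 x)
    rw [map_mul, map_inv] at h
    exact h

theorem congr_trivMod {g : MulAut P} (hg : g ∈ trivMod (P ⊓ T) P) :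
    MulAut.congr τ.e g ∈ trivMod (τ.P' ⊓ T) τ.P' := fun y => by
  obtain ⟨x, rfl⟩ := τ.e.surjective y
  show (τ.e x : Ω)⁻¹ * (τ.e (g (τ.e.symm (τ.e x))) : Ω) ∈ τ.P' ⊓ T
  rw [τ.e.symm_apply_apply]
  have h := (τ.mem_inf (x⁻¹ * g x)).2 (hg x)
  rw [map_mul, map_inv] at h
  exact h

theorem pull_induced {k : MulAut P}
    (h : MulAut.congr τ.e k ∈ autInducedBy (τ.P' ⊓ T) τ.P') : k ∈ autInducedBy (P ⊓ T) P := by
  obtain ⟨w, hw, hwe⟩ := H85.mem_autInducedBy.1 h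
  obtain ⟨u, hu⟩ := τ.e.surjective ⟨w, hw.1⟩
  refine H85.mem_autInducedBy.2 ⟨u, (τ.mem_inf u).1 (hu ▸ hw), fun x => ?_⟩
  have h1 : τ.e (k x) = τ.e (u * x * u⁻¹) := by
    refine Subtype.ext ?_
    have h2 := hwe (τ.e x)
    rw [show (MulAut.congr τ.e k) (τ.e x) = τ.e (k x) by simp [MulAut.congr]] at h2
    rw [h2, map_mul, map_mul, map_inv, hu]
    rfl
  exact congrArg Subtype.val (τ.e.injective h1)

theorem congr_conjAut (g : normalizerIn S P) :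
    MulAut.congr τ.e (H85.conjAut S P g) = H85.conjAut S τ.P' ⟨τ.χ g, τ.mapN g⟩ :=
  (H85.conjAut_map (H85.le_normalizerIn τ.he.left_le) (fun x => τ.ext x _) g g.2 (τ.mapN g)).symm

end Tr

theorem fixTriv_comm {U P : Subgroup Ω} (hn : P ≤ Subgroup.normalizer (U : Set Ω)) (hUP : U ≤ P)
    {k l : MulAut P} (hk : k ∈ fixTriv U P) (hl : l ∈ fixTriv U P) : k * l = l * k := by
  refine MulEquiv.ext fun x => ?_
  have key : ∀ {k l : MulAut P}, k ∈ fixTriv U P → l ∈ fixTriv U P →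
      k (l x) = k x * (x⁻¹ * l x) := by
    intro k l hk hl
    conv_lhs => rw [show l x = x * (x⁻¹ * l x) by group, map_mul, hk.1 (x⁻¹ * l x) (hl.2 x)]
  rw [MulAut.mul_apply, MulAut.mul_apply, key hk hl, key hl hk]
  have hcomm : ∀ u : P, (u : Ω) ∈ U → (x⁻¹ * k x) * u = u * (x⁻¹ * k x) := by
    intro u hu
    have h1 : k (x * u * x⁻¹) = x * u * x⁻¹ :=
      hk.1 _ (H85.conj_mem_of_mem_normalizer (hn x.2) hu)
    rw [map_mul, map_mul, map_inv, hk.1 u hu] at h1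
    calc (x⁻¹ * k x) * u = x⁻¹ * (k x * u * (k x)⁻¹) * k x := by group
      _ = u * (x⁻¹ * k x) := by rw [h1]; group
  calc k x * (x⁻¹ * l x) = x * ((x⁻¹ * k x) * (x⁻¹ * l x)) := by group
    _ = x * ((x⁻¹ * l x) * (x⁻¹ * k x)) := by rw [hcomm _ (hl.2 x)]
    _ = l x * (x⁻¹ * k x) := by group

set_option maxHeartbeats 800000 in
/-- Centrality for the automorphisms of order prime to `p`. -/
theorem cent_coprime (d : Data p F E) {P : Subgroup Ω} (hP : P ∈ Hs d)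
    (hn : E.IsFullyNormalized (P ⊓ T)) {g : MulAut P} (hg : g ∈ (naive d).autGroup P)
    (hord : (orderOf g).Coprime p) {k : MulAut P} (hk : k ∈ F.autGroup P)
    (hkf : k ∈ fixTriv (P ⊓ T) P) : g * k * g⁻¹ * k⁻¹ ∈ autInducedBy (P ⊓ T) P := by
  have := d.finT
  have hPS := hP.1
  have hc := hs_centric d hP
  have hC := hs_cent d hP
  have : Finite P := H85.finite_of_le hPS
  obtain ⟨τ⟩ := exists_tr d hPS
  refine τ.pull_induced ?_
  simp only [map_mul, map_inv]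
  obtain ⟨hgt, w, hw, hwe⟩ := coprime_props d hPS hg hord
  have hgU : g ∈ trivMod (P ⊓ T) P := fun x => ⟨P.mul_mem (P.inv_mem x.2) (g x).2, hgt x⟩
  have : Finite ↥(P ⊓ T) := H85.finite_of_le (inf_le_left.trans hPS)
  have hr : w.range = P ⊓ T := range_eq_self_of_le E hw (by
    rintro _ ⟨x, rfl⟩
    rw [← hwe x]
    exact trivMod_mapsTo hgU le_rfl x.2)
  set α : MulAut ↥(P ⊓ T) := autOfHom w (E.injective_of_mem hw) hr with hαdef
  have hαv : ∀ x : ↥(P ⊓ T), (g ⟨x, x.2.1⟩ : Ω) = α x := hwe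
  have hα : α ∈ E.autGroup (P ⊓ T) := autOfHom_mem E hw hr
  have hgF : g ∈ F.autGroup P := H85.autGroup_mono (naive_sub d) P hg
  have hU'c : E.IsCentric (τ.P' ⊓ T) := centric_of_conj d.hE.1 hc τ.heU.isConj
  have hP'S := τ.le_S
  have : Finite τ.P' := H85.finite_of_le hP'S
  set g' := MulAut.congr τ.e g with hg'def
  set k' := MulAut.congr τ.e k with hk'def
  set α' := MulAut.congr τ.eU α with hα'def
  have hg'α : ∀ y : ↥(τ.P' ⊓ T), (g' ⟨y, y.2.1⟩ : Ω) = α' y := by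
    intro y
    obtain ⟨x, rfl⟩ := τ.eU.surjective y
    show (τ.e (g (τ.e.symm _)) : Ω) = (τ.eU (α (τ.eU.symm (τ.eU x))) : Ω)
    rw [τ.eU.symm_apply_apply,
      show (τ.e.symm ⟨(τ.eU x : Ω), (τ.eU x).2.1⟩ : P) = ⟨x, x.2.1⟩ from
        (MulEquiv.symm_apply_eq _).2 (Subtype.ext rfl)]
    exact congrArg (fun z => (τ.e z : Ω)) (Subtype.ext (hαv x) : g ⟨x, x.2.1⟩ = ⟨α x, (α x).2.1⟩)
  have hordα : (orderOf α).Coprime p := by
    refine Nat.Coprime.of_dvd_left (orderOf_dvd_of_pow_eq_one ?_) hord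
    refine MulEquiv.ext fun x => Subtype.ext ?_
    have hpow : ∀ i : ℕ, ∀ x : ↥(P ⊓ T), ((g ^ i) ⟨x, x.2.1⟩ : Ω) = ((α ^ i) x : Ω) := by
      intro i
      induction i with
      | zero => intro x; rfl
      | succ i ih =>
        intro x
        rw [pow_succ', pow_succ', MulAut.mul_apply, MulAut.mul_apply,
          show (g ^ i) ⟨x, x.2.1⟩ = ⟨((α ^ i) x : Ω), ((α ^ i) x).2.1⟩ from Subtype.ext (ih x)]
        exact hαv _
    rw [← hpow, pow_orderOf_eq_one]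
    rfl
  have hnormer : τ.P' ≤ normalizerIn S (τ.P' ⊓ T) := τ.le_N
  obtain ⟨f, hf, -, hft, hfU, hfC⟩ := exists_core d τ.hU hU'c hnormer inf_le_left
    (fun m hm hE => by
      obtain ⟨q, hq⟩ := τ.e.surjective ⟨m, hm⟩
      have hqN : (q : Ω) ∈ normalizerIn S (P ⊓ T) :=
        norm_inf d hPS (H85.le_normalizerIn hPS q.2)
      have hL : ∀ (a : P) (x : ↥(P ⊓ T)), (τ.e a : Ω) * (τ.eU x : Ω) * (τ.e a : Ω)⁻¹ =
          (τ.e (a * ⟨x, x.2.1⟩ * a⁻¹) : Ω) := fun a x => by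
        rw [map_mul, map_mul, map_inv]
        rfl
      have h1 : H85.conjAut S (P ⊓ T) ⟨q, hqN⟩ ∈ E.autGroup (P ⊓ T) := by
        have h2 := eaut_congr d inf_le_right τ.heU.symm hE
        have h3 : MulAut.congr τ.eU.symm (H85.conjAut S (τ.P' ⊓ T) m) =
            H85.conjAut S (P ⊓ T) ⟨q, hqN⟩ := by
          refine MulEquiv.ext fun x => τ.eU.injective ?_
          show τ.eU (τ.eU.symm (H85.conjAut S (τ.P' ⊓ T) m (τ.eU x))) = _
          rw [τ.eU.apply_symm_apply]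
          refine Subtype.ext ?_
          show (m : Ω) * (τ.eU x : Ω) * (m : Ω)⁻¹ = _
          rw [show (m : Ω) = (τ.e q : Ω) from (congrArg Subtype.val hq).symm, hL]
          rfl
        rwa [h3] at h2
      obtain ⟨v, hv, hve⟩ := exists_part_T d hn (fun a ha => norm_inf d hPS
        (H85.le_normalizerIn hPS ha)) hC ⟨q, hqN⟩ q.2 h1
      refine ⟨τ.e ⟨v, hv.1⟩, (τ.mem_inf _).2 hv, fun y => ?_⟩
      obtain ⟨x, rfl⟩ := τ.eU.surjective y
      rw [show (m : Ω) = (τ.e q : Ω) from (congrArg Subtype.val hq).symm, hL, hL]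
      exact congrArg (fun z => (τ.e z : Ω)) (Subtype.ext (hve x)))
    (eaut_congr d inf_le_right τ.heU hα)
    (by rwa [MulEquiv.orderOf_eq (MulAut.congr τ.eU) α]) fun m hm => by
      refine ⟨g' ⟨m, hm⟩, SetLike.coe_mem _, fun y hy => ?_⟩
      rw [← hg'α]
      have h0 : (⟨m * ((α'⁻¹ y : ↥(τ.P' ⊓ T)) : Ω) * m⁻¹, hy.1⟩ : τ.P') =
          ⟨m, hm⟩ * ⟨((α'⁻¹ y : ↥(τ.P' ⊓ T)) : Ω), (α'⁻¹ y).2.1⟩ * ⟨m, hm⟩⁻¹ := rfl
      rw [h0, map_mul, map_mul, map_inv]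
      show (g' ⟨m, hm⟩ : Ω) * (g' _ : Ω) * (g' ⟨m, hm⟩ : Ω)⁻¹ = _
      rw [hg'α, MulAut.apply_inv_self]
  have hXS : τ.P' ⊔ centralizerIn S (τ.P' ⊓ T) ≤ S :=
    sup_le hP'S (H85.centralizerIn_le _)
  obtain ⟨f', hf', hf't, -, hf'e⟩ :=
    exists_res_trivMod hXS hf hft inf_le_left le_sup_left
  have hf'T : f' ∈ trivMod (τ.P' ⊓ T) τ.P' := hf't
  have hg'T : g' ∈ trivMod (τ.P' ⊓ T) τ.P' := τ.congr_trivMod hgU
  have hg'F : g' ∈ F.autGroup τ.P' := H85.congr_mem_autGroup τ.he hgF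
  have hl : g'⁻¹ * f' ∈ fixTriv (τ.P' ⊓ T) τ.P' := by
    refine ⟨fun y hy => ?_, (trivMod _ _).mul_mem ((trivMod _ _).inv_mem hg'T) hf'T⟩
    rw [MulAut.mul_apply]
    refine g'.injective ?_
    rw [MulAut.apply_inv_self]
    refine Subtype.ext ((hf'e y).trans ?_)
    exact (hfU ⟨y, hy⟩).trans (hg'α ⟨y, hy⟩).symm
  have hk' : k' ∈ fixTriv (τ.P' ⊓ T) τ.P' := τ.congr_fixTriv hkf
  have hk'F : k' ∈ F.autGroup τ.P' := H85.congr_mem_autGroup τ.he hk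
  obtain ⟨h, hh, hhk⟩ :=
    exists_induced_fix_of_fn d.hS d.satF τ.hU inf_le_left τ.fn hk'F hk'
  have hcomm : g' * k' * g'⁻¹ = f' * k' * f'⁻¹ := by
    have h1 := fixTriv_comm (fun y hy => (hnormer hy).2) inf_le_left hl hk'
    calc g' * k' * g'⁻¹ = g' * (k' * (g'⁻¹ * f')) * (g'⁻¹ * f')⁻¹ * g'⁻¹ := by group
      _ = g' * ((g'⁻¹ * f') * k') * (g'⁻¹ * f')⁻¹ * g'⁻¹ := by rw [h1]
      _ = f' * k' * f'⁻¹ := by group
  rw [hcomm]
  let hx : ↥(τ.P' ⊔ centralizerIn S (τ.P' ⊓ T)) := ⟨h, Subgroup.mem_sup_right hh⟩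
  have hu := hfC hx hh
  have hu' : (f hx : Ω) * h⁻¹ ∈ τ.P' ⊓ T := by
    have h1 : h * ((h : Ω)⁻¹ * f hx) * h⁻¹ ∈ τ.P' ⊓ T := H85.conj_mem_of_mem_normalizer
      (H85.centralizerIn_le_normalizerIn _ hh).2 hu
    rwa [mul_inv_cancel_left] at h1
  refine H85.mem_autInducedBy.2 ⟨_, hu', fun y => ?_⟩
  obtain ⟨z, hz⟩ := f'.surjective (k' (f'⁻¹ (k'⁻¹ y)))
  have hv : (f' (k' (f'⁻¹ (k'⁻¹ y))) : Ω) =
      (f hx : Ω) * ((k'⁻¹ y : τ.P') : Ω) * (f hx : Ω)⁻¹ := by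
    rw [hf'e]
    have h2 : Subgroup.inclusion le_sup_left (k' (f'⁻¹ (k'⁻¹ y))) =
        hx * Subgroup.inclusion le_sup_left (f'⁻¹ (k'⁻¹ y)) * hx⁻¹ := Subtype.ext (hhk _)
    rw [h2, map_mul, map_mul, map_inv, Subgroup.coe_mul, Subgroup.coe_mul, Subgroup.coe_inv,
      ← hf'e, MulAut.apply_inv_self]
  show (f' (k' (f'⁻¹ (k'⁻¹ y))) : Ω) = _
  rw [hv]
  have h3 := hhk (k'⁻¹ y)
  rw [MulAut.apply_inv_self] at h3
  rw [h3]
  group

/-- Centrality for the automorphisms induced by `T`. -/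
theorem cent_T (d : Data p F E) {P : Subgroup Ω} (hP : P ∈ Hs d)
    {g : MulAut P} (hg : g ∈ autInducedBy T P) {k : MulAut P} (hk : k ∈ F.autGroup P)
    (hkf : k ∈ fixTriv (P ⊓ T) P) : g * k * g⁻¹ * k⁻¹ ∈ autInducedBy (P ⊓ T) P := by
  have := d.finT
  have hPS := hP.1
  have : Finite P := H85.finite_of_le hPS
  obtain ⟨τ⟩ := exists_tr d hPS
  refine τ.pull_induced ?_
  obtain ⟨t, ht, hte⟩ := H85.mem_autInducedBy.1 hg
  have htN : t ∈ normalizerIn S P := ⟨d.le_base ht, H85.mem_normalizer_of_induced hte⟩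
  have hgeq : g = H85.conjAut S P ⟨t, htN⟩ := MulEquiv.ext fun x => Subtype.ext (hte x)
  simp only [map_mul, map_inv]
  rw [hgeq, τ.congr_conjAut]
  have hk' := τ.congr_fixTriv hkf
  have hU'c : E.IsCentric (τ.P' ⊓ T) := centric_of_conj d.hE.1 (hs_centric d hP) τ.heU.isConj
  obtain ⟨h, hh, hhk⟩ := exists_induced_fix_of_fn d.hS d.satF τ.hU inf_le_left τ.fn
    (H85.congr_mem_autGroup τ.he hk) hk'
  generalize MulAut.congr τ.e k = k₁ at hk' hhk ⊢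
  set s := τ.χ ⟨t, htN⟩ with hsdef
  have hsT : s ∈ T := (d.mapT τ.hχ _).2 ht
  have hsN : s ∈ normalizerIn S τ.P' := τ.mapN _
  have hsU : s ∈ normalizerIn S (τ.P' ⊓ T) := norm_inf d τ.le_S hsN
  have hcs : s * h * s⁻¹ * h⁻¹ ∈ τ.P' ⊓ T := by
    refine inf_pc_le hU'c ?_ (Subgroup.mem_sup_right ((centralizerIn S _).mul_mem
      (H85.mem_centralizerIn.2 ⟨S.mul_mem (S.mul_mem hsN.1 hh.1) (S.inv_mem hsN.1),
        fun u hu => ?_⟩) ((centralizerIn S _).inv_mem hh)))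
    · have h1 := T.mul_mem hsT (d.conjT hh.1 (T.inv_mem hsT))
      rwa [show s * (h * s⁻¹ * h⁻¹) = s * h * s⁻¹ * h⁻¹ by group] at h1
    · have h1 := (H85.mem_centralizerIn.1 hh).2 _ (H85.conj_mem_of_mem_normalizer' hsU.2 hu)
      calc u * (s * h * s⁻¹) = s * ((s⁻¹ * u * s) * h) * s⁻¹ := by group
        _ = s * (h * (s⁻¹ * u * s)) * s⁻¹ := by rw [h1]
        _ = s * h * s⁻¹ * u := by group
  refine H85.mem_autInducedBy.2 ⟨_, hcs, fun y => ?_⟩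
  set c := H85.conjAut S τ.P' ⟨s, hsN⟩ with hc
  obtain ⟨z, rfl⟩ : ∃ z, k₁ (c z) = y := ⟨c⁻¹ (k₁⁻¹ y), by simp⟩
  simp only [MulAut.mul_apply, MulAut.inv_apply_self]
  show s * (k₁ z : Ω) * s⁻¹ = _
  rw [hhk, hhk]
  show s * (h * (z : Ω) * h⁻¹) * s⁻¹ =
    s * h * s⁻¹ * h⁻¹ * (h * (s * (z : Ω) * s⁻¹) * h⁻¹) * (s * h * s⁻¹ * h⁻¹)⁻¹
  group

set_option maxHeartbeats 800000 in
/-- Stability of the automorphisms induced by `T`. -/
theorem stab_T (d : Data p F E) {P : Subgroup Ω} (hP : P ∈ Hs d) {g k c c' : MulAut P}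
    (hg : g ∈ F.autGroup P) (hgU : g ∈ trivMod (P ⊓ T) P) (hk : k ∈ F.autGroup P)
    (hkf : k ∈ fixTriv (P ⊓ T) P) (hc : c ∈ autInducedBy T P) (hc' : c' ∈ autInducedBy T P)
    (heq : g * c * g⁻¹ = k * c') : k ∈ autInducedBy (P ⊓ T) P := by
  have := d.finT
  have hPS := hP.1
  have : Finite P := H85.finite_of_le hPS
  obtain ⟨τ⟩ := exists_tr d hPS
  refine τ.pull_induced ?_
  have hU'c : E.IsCentric (τ.P' ⊓ T) := centric_of_conj d.hE.1 (hs_centric d hP) τ.heU.isConj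
  have heq₁ := congrArg (MulAut.congr τ.e) heq
  simp only [map_mul, map_inv] at heq₁
  obtain ⟨t, ht, hte⟩ := H85.mem_autInducedBy.1 hc
  obtain ⟨t', ht', hte'⟩ := H85.mem_autInducedBy.1 hc'
  have htN : t ∈ normalizerIn S P := ⟨d.le_base ht, H85.mem_normalizer_of_induced hte⟩
  have htN' : t' ∈ normalizerIn S P := ⟨d.le_base ht', H85.mem_normalizer_of_induced hte'⟩
  rw [show c = H85.conjAut S P ⟨t, htN⟩ from MulEquiv.ext fun x => Subtype.ext (hte x),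
    show c' = H85.conjAut S P ⟨t', htN'⟩ from MulEquiv.ext fun x => Subtype.ext (hte' x),
    τ.congr_conjAut, τ.congr_conjAut] at heq₁
  have hk' := τ.congr_fixTriv hkf
  have hg' := τ.congr_trivMod hgU
  have hg'F := H85.congr_mem_autGroup τ.he hg
  obtain ⟨h, hh, hhk⟩ := exists_induced_fix_of_fn d.hS d.satF τ.hU inf_le_left τ.fn
    (H85.congr_mem_autGroup τ.he hk) hk'
  generalize MulAut.congr τ.e k = k₁ at hk' hhk heq₁ ⊢
  generalize MulAut.congr τ.e g = g₁ at hg' hg'F heq₁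
  set s := τ.χ ⟨t, htN⟩ with hsdef
  set s' := τ.χ ⟨t', htN'⟩ with hs'def
  have hsT : s ∈ T := (d.mapT τ.hχ _).2 ht
  have hs'T : s' ∈ T := (d.mapT τ.hχ _).2 ht'
  have hsN : s ∈ normalizerIn S τ.P' := τ.mapN _
  have hs'N : s' ∈ normalizerIn S τ.P' := τ.mapN _
  have hsU := norm_inf d τ.le_S hsN
  have hs'U := norm_inf d τ.le_S hs'N
  have : Finite (normalizerIn S (τ.P' ⊓ T)) := H85.finite_of_le (H85.normalizerIn_le _)
  have hNp : IsPGroup p (normalizerIn S (τ.P' ⊓ T)) := d.hS.to_le (H85.normalizerIn_le _)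
  have hN := H85.isSaturated_normalizerSystem d.hS d.satF τ.hU _
    (H85.normalizerSystem_spec F (τ.P' ⊓ T) τ.hU.1)
  have hgN : g₁ ∈ (H85.normalizerSystem F (τ.P' ⊓ T) τ.hU.1).autGroup τ.P' :=
    mem_nSys_aut τ.hU.1 τ.le_N inf_le_left hg'F fun x hx => trivMod_mapsTo hg' le_rfl hx
  obtain ⟨ψ, hψ, hext⟩ := H85.receptive_extend
    (H85.receptive_of_fullyNormalized hNp hN τ.fn) ((H85.mem_autGroup τ.le_N).1 hgN)
  have hrel : ∀ x : τ.P', ∀ hx : s * (x : Ω) * s⁻¹ ∈ τ.P',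
      (g₁ ⟨_, hx⟩ : Ω) = h * s' * (g₁ x : Ω) * (h * s')⁻¹ := by
    intro x hx
    have h1 := congrArg Subtype.val (DFunLike.congr_fun heq₁ (g₁ x))
    simp only [MulAut.mul_apply, MulAut.inv_apply_self] at h1
    refine (congrArg (fun z => (g₁ z : Ω)) (Subtype.ext rfl)).trans (h1.trans ?_)
    rw [hhk]
    show h * (s' * (g₁ x : Ω) * s'⁻¹) * h⁻¹ = _
    group
  have hhN : h ∈ normalizerIn S (τ.P' ⊓ T) := H85.centralizerIn_le_normalizerIn _ hh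
  have hsX : s ∈ extender (normalizerIn S (τ.P' ⊓ T)) τ.P'
      (τ.P'.subtype.comp g₁.toMonoidHom) :=
    H85.mem_extender.2 ⟨hsU, hsN.2, h * s', mul_mem hhN hs'U, hrel⟩
  have hPX : τ.P' ≤ extender (normalizerIn S (τ.P' ⊓ T)) τ.P'
      (τ.P'.subtype.comp g₁.toMonoidHom) :=
    H85.le_extender τ.le_N fun x => τ.le_N (g₁ x).2
  have hψF : ψ ∈ F.Hom _ := (H85.mem_normalizerHom.1 hψ).1
  set w := ψ ⟨s, hsX⟩ * s'⁻¹ with hwdef
  have hwT : w ∈ T := T.mul_mem ((d.mapT hψF _).2 hsT) (T.inv_mem hs'T)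
  have hwk : ∀ y : τ.P', (k₁ y : Ω) = w * (y : Ω) * w⁻¹ := by
    intro y
    obtain ⟨x, hx⟩ := g₁.surjective ((H85.conjAut S τ.P' ⟨s', hs'N⟩)⁻¹ y)
    have hy : (y : Ω) = s' * (g₁ x : Ω) * s'⁻¹ := by
      rw [hx]
      exact (congrArg Subtype.val
        (MulAut.apply_inv_self _ (H85.conjAut S τ.P' ⟨s', hs'N⟩) y)).symm
    have hxs : s * (x : Ω) * s⁻¹ ∈ τ.P' := H85.conj_mem_of_mem_normalizer hsN.2 x.2
    have h1 := hrel x hxs
    have h2 := H85.extend_conj (e := (g₁ : τ.P' ≃* τ.P')) hPX (fun z => hext z z.2 _)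
      (g := ⟨s, hsX⟩) (x := x) hxs
    have h3 := h1.symm.trans h2
    rw [hhk, hy, hwdef]
    calc h * (s' * (g₁ x : Ω) * s'⁻¹) * h⁻¹ = h * s' * (g₁ x : Ω) * (h * s')⁻¹ := by group
      _ = ψ ⟨s, hsX⟩ * (g₁ x : Ω) * (ψ ⟨s, hsX⟩)⁻¹ := h3
      _ = _ := by group
  refine H85.mem_autInducedBy.2 ⟨w, inf_pc_le hU'c hwT (Subgroup.mem_sup_right
    (H85.mem_centralizerIn.2 ⟨d.le_base hwT, fun u hu => ?_⟩)), hwk⟩
  have h1 := hwk ⟨u, hu.1⟩
  rw [hk'.1 ⟨u, hu.1⟩ hu] at h1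
  calc u * w = (w * u * w⁻¹) * w := by rw [← h1]
    _ = w * u := by group

end H86.SE
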