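import Cfsg.Agent.H86.SE.Kernel
import Cfsg.Agent.H86.CentralLift.LiftSys
import Cfsg.Agent.H85.Essential

/-! Automorphisms in the group generated by `Aut_S(P)` and the automorphisms of order prime to `p`
extend as far as the induced automorphisms allow. -/

set_option autoImplicit false
set_option linter.unusedSectionVars false

open Cfsg Cfsg.FusionSystem

namespace H86.SE

variable {Ω : Type*} [Group Ω] {S T : Subgroup Ω} [Finite S] {p : ℕ} [Fact p.Prime]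
  {F : FusionSystem S} {E : FusionSystem T}

/-- The automorphisms of the product at an admissible subgroup. -/
def kGen (d : Data p F E) (P : Subgroup Ω) : Subgroup (MulAut P) :=
  oGen d P ⊔ autInducedBy S P

/-- The consequences of the kernel of the defect. -/
structure Good (d : Data p F E) (P : Subgroup Ω) : Prop where
  mem : P ∈ Hs d
  fnE : E.IsFullyNormalized (P ⊓ T)
  inner : ∀ k ∈ oGen d P, k ∈ fixTriv (P ⊓ T) P → k ∈ autInducedBy (P ⊓ T) P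
  sylow : ¬ p ∣ (autInducedBy S P).relIndex (kGen d P)

theorem kGen_le_naive (d : Data p F E) {P : Subgroup Ω} (hP : P ≤ S) :
    kGen d P ≤ (naive d).autGroup P :=
  sup_le (oGen_le_naive d P) (H85.autInducedBy_le_autGroup _ hP)

theorem kGen_le_prodSys (d : Data p F E) {P : Subgroup Ω} (hP : P ∈ Hs d) :
    kGen d P ≤ (prodSys d).autGroup P :=
  sup_le (oGen_le_prodSys d hP) (H85.autInducedBy_le_autGroup _ hP.1)

theorem coprime_kGen (d : Data p F E) {P : Subgroup Ω} {a : MulAut P}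
    (ha : a ∈ (naive d).autGroup P) (hord : (orderOf a).Coprime p) : a ∈ kGen d P :=
  Subgroup.mem_sup_left (Subgroup.subset_closure ⟨ha, hord⟩)

/-- The restriction to `P ⊓ T` of an automorphism of order prime to `p`. -/
theorem exists_eaut (d : Data p F E) {P : Subgroup Ω} (hP : P ≤ S) {a : MulAut P}
    (ha : a ∈ (naive d).autGroup P) (hord : (orderOf a).Coprime p) :
    ∃ α ∈ E.autGroup (P ⊓ T), (orderOf α).Coprime p ∧
      ∀ x : ↥(P ⊓ T), (a ⟨x, x.2.1⟩ : Ω) = α x := by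
  have := d.finT
  have hU := coprime_trivMod d hP ha hord
  have : Finite P := H85.finite_of_le hP
  have : Finite ↥(P ⊓ T) := H85.finite_of_le (inf_le_left.trans hP)
  obtain ⟨-, e, he, hee⟩ := coprime_props d hP ha hord
  have hr : e.range = P ⊓ T := range_eq_self_of_le E he (by
    rintro _ ⟨x, rfl⟩
    rw [← hee x]
    exact trivMod_mapsTo hU le_rfl x.2)
  refine ⟨autOfHom e (E.injective_of_mem he) hr, autOfHom_mem E he hr, ?_, hee⟩
  have h : autOfHom e (E.injective_of_mem he) hr = resTriv inf_le_left ⟨a, hU⟩ :=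
    MulEquiv.ext fun x => Subtype.ext (hee x).symm
  rw [h]
  refine Nat.Coprime.of_dvd_left (orderOf_map_dvd _ _) ?_
  rwa [← Subgroup.orderOf_coe]

set_option maxHeartbeats 800000 in
/-- An automorphism of order prime to `p` normalizing `Aut_M(P)` extends to `M`. -/
theorem Good.extend_coprime {d : Data p F E} {P : Subgroup Ω} (h : Good d P) {M : Subgroup Ω}
    (hPM : P ≤ M) (hM : M ≤ normalizerIn S P) {x : MulAut P}
    (hx : x ∈ (naive d).autGroup P) (hord : (orderOf x).Coprime p)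
    (hnorm : ∀ m ∈ M, ∃ m' ∈ M, ∀ y : P, ∀ hy : m * ((x⁻¹ y : P) : Ω) * m⁻¹ ∈ P,
      (x ⟨_, hy⟩ : Ω) = m' * (y : Ω) * m'⁻¹) :
    ∃ χ ∈ (prodSys d).Hom M, ∀ y : P, χ (Subgroup.inclusion hPM y) = x y := by
  have := d.finT
  have hPS := h.mem.1
  have hMS : M ≤ S := hM.trans (H85.normalizerIn_le P)
  have : Finite P := H85.finite_of_le hPS
  have : Finite M := H85.finite_of_le hMS
  obtain ⟨α, hα, hαord, hαx⟩ := exists_eaut d hPS hx hord
  have hMU : M ≤ normalizerIn S (P ⊓ T) := hM.trans (norm_inf d hPS)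
  have hUM : P ⊓ T ≤ M := inf_le_left.trans hPM
  have hC := hs_cent d h.mem
  obtain ⟨a, ha, haord, hat, haU, -⟩ := exists_lift d h.fnE (hs_centric d h.mem) hMU hUM
    (hC.trans hPM) hα hαord fun m hm => by
      obtain ⟨m', hm', hmm'⟩ := hnorm m hm
      refine ⟨m', hm', fun u hu => ?_⟩
      have hxi : x⁻¹ ⟨u, u.2.1⟩ = ⟨(α⁻¹ u : ↥(P ⊓ T)), (α⁻¹ u).2.1⟩ := x.injective (by
        rw [MulAut.apply_inv_self]
        refine Subtype.ext ?_
        rw [hαx, MulAut.apply_inv_self])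
      have h1 := hmm' ⟨u, u.2.1⟩ (by rw [hxi]; exact hu.1)
      refine Eq.trans ?_ h1
      rw [← hαx]
      exact congrArg (fun z => (x z : Ω)) (Subtype.ext
        (congrArg (fun q : P => m * (q : Ω) * m⁻¹) hxi.symm))
  have haM := (H85.mem_autGroup hMS).1 (H85.autGroup_mono (naive_sub d) M ha)
  have hr0 := H85.restrict haM hPM
  have hrange : ((M.subtype.comp a.toMonoidHom).comp (Subgroup.inclusion hPM)).range = P := by
    refine range_eq_self_of_le F hr0 ?_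
    rintro _ ⟨q, rfl⟩
    show (a (Subgroup.inclusion hPM q) : Ω) ∈ P
    have hw : (x q : Ω)⁻¹ * (a (Subgroup.inclusion hPM q) : Ω) ∈ centralizerIn S (P ⊓ T) := by
      refine H85.mem_centralizerIn.2 ⟨S.mul_mem (S.inv_mem (hPS (x q).2))
        (hMS (a (Subgroup.inclusion hPM q)).2), fun u hu => ?_⟩
      obtain ⟨v, hv⟩ := α.surjective ⟨u, hu⟩
      have hqv : (q : Ω) * v * (q : Ω)⁻¹ ∈ P ⊓ T := H85.conj_mem_of_mem_normalizer
        (hMU (hPM q.2)).2 v.2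
      have h1 : (x (q * ⟨v, v.2.1⟩ * q⁻¹) : Ω) =
          (a (Subgroup.inclusion hPM q * Subgroup.inclusion hUM v *
            (Subgroup.inclusion hPM q)⁻¹) : Ω) :=
        (hαx ⟨_, hqv⟩).trans (haU ⟨_, hqv⟩).symm
      rw [map_mul, map_mul, map_inv, map_mul, map_mul, map_inv, Subgroup.coe_mul, Subgroup.coe_mul,
        Subgroup.coe_inv, Subgroup.coe_mul, Subgroup.coe_mul, Subgroup.coe_inv, haU,
        hαx, show (α v : Ω) = u from congrArg Subtype.val hv] at h1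
      calc u * ((x q : Ω)⁻¹ * (a (Subgroup.inclusion hPM q) : Ω))
          = (x q : Ω)⁻¹ * ((x q : Ω) * u * (x q : Ω)⁻¹) * (a (Subgroup.inclusion hPM q) : Ω) := by
            group
        _ = (x q : Ω)⁻¹ * (a (Subgroup.inclusion hPM q) : Ω) * u := by rw [h1]; group
    have h2 := P.mul_mem (x q).2 (hC hw)
    rwa [mul_inv_cancel_left] at h2
  set b : MulAut P := autOfHom _ (F.injective_of_mem hr0) hrange with hbdef
  have hbv : ∀ q : P, (b q : Ω) = a (Subgroup.inclusion hPM q) := fun _ => rfl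
  have hb : b ∈ (naive d).autGroup P :=
    autOfHom_mem (naive d) (H85.restrict ((H85.mem_autGroup hMS).1 ha) hPM) hrange
  have hbord : (orderOf b).Coprime p := by
    refine Nat.Coprime.of_dvd_left (orderOf_dvd_of_pow_eq_one ?_) haord
    have hpow : ∀ (i : ℕ) (q : P),
        ((b ^ i) q : Ω) = (a ^ i) (Subgroup.inclusion hPM q) := by
      intro i
      induction i with
      | zero => intro q; rfl
      | succ i ih =>
        intro q
        rw [pow_succ', pow_succ', MulAut.mul_apply, MulAut.mul_apply,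
          show (a ^ i) (Subgroup.inclusion hPM q) = Subgroup.inclusion hPM ((b ^ i) q) from
            Subtype.ext (ih q).symm]
        rfl
    refine MulEquiv.ext fun q => Subtype.ext ?_
    rw [hpow, pow_orderOf_eq_one]
    rfl
  have hk : x⁻¹ * b ∈ oGen d P := Subgroup.mul_mem _
    (Subgroup.inv_mem _ (Subgroup.subset_closure ⟨hx, hord⟩))
    (Subgroup.subset_closure ⟨hb, hbord⟩)
  have hkf : x⁻¹ * b ∈ fixTriv (P ⊓ T) P := by
    refine ⟨fun q hq => ?_, oGen_trivMod d hPS hk⟩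
    refine x.injective ?_
    rw [MulAut.mul_apply, MulAut.apply_inv_self]
    exact Subtype.ext ((hbv q).trans ((haU ⟨q, hq⟩).trans (hαx ⟨q, hq⟩).symm))
  obtain ⟨u, hu, hue⟩ := H85.mem_autInducedBy.1 (h.inner _ hk hkf)
  have haD : H85.IsFIso (prodSys d) a := (H85.mem_autGroup hMS).1
    (coprime_mem_hs d (hs_mono d h.mem hPM hMS) ha haord)
  have hmc : ∀ m : M, Cfsg.conjHom M u⁻¹ m ∈ M := fun m => by
    rw [H85.conjHom_apply, inv_inv]
    exact M.mul_mem (M.mul_mem (M.inv_mem (hUM hu)) m.2) (hUM hu)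
  refine ⟨_, (prodSys d).comp_mem ((prodSys d).conj_mem hMS (S.inv_mem (hPS hu.1))) haD hmc,
    fun y => ?_⟩
  have hy : (u⁻¹ * (y : Ω) * u) ∈ P :=
    P.mul_mem (P.mul_mem (P.inv_mem hu.1) y.2) hu.1
  have hzy : (x⁻¹ * b) ⟨_, hy⟩ = y := Subtype.ext (by
    rw [hue]
    show u * (u⁻¹ * (y : Ω) * u) * u⁻¹ = y
    group)
  have h3 : b ⟨_, hy⟩ = x y := by
    have h4 := congrArg x hzy
    rwa [MulAut.mul_apply, MulAut.apply_inv_self] at h4
  rw [← h3, hbv]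
  exact congrArg (fun z => (a z : Ω)) (Subtype.ext (show u⁻¹ * (y : Ω) * u⁻¹⁻¹ = _ by
    rw [inv_inv]; rfl))

/-- The elements of `N_S(P)` inducing elements of `R`. -/
noncomputable def preim (S P : Subgroup Ω) (R : Subgroup (MulAut P)) : Subgroup Ω :=
  (R.comap (H85.conjAut S P)).map (normalizerIn S P).subtype

theorem mem_preim {P : Subgroup Ω} {R : Subgroup (MulAut P)} {g : Ω} :
    g ∈ preim S P R ↔ ∃ h : g ∈ normalizerIn S P, H85.conjAut S P ⟨g, h⟩ ∈ R :=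
  ⟨by rintro ⟨x, hx, rfl⟩; exact ⟨x.2, hx⟩, fun ⟨h, hx⟩ => ⟨⟨g, h⟩, hx, rfl⟩⟩

theorem preim_le {P : Subgroup Ω} (R : Subgroup (MulAut P)) :
    preim S P R ≤ normalizerIn S P := Subgroup.map_subtype_le _

theorem le_preim {P : Subgroup Ω} (hP : P ≤ S) {R : Subgroup (MulAut P)}
    (hR : Cfsg.Inn P ≤ R) : P ≤ preim S P R := fun x hx => mem_preim.2
  ⟨H85.le_normalizerIn hP hx, hR ⟨⟨x, hx⟩, MulEquiv.ext fun _ => Subtype.ext rfl⟩⟩

/-- `a` extends, in the product, to the preimage of `R`. -/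
def Ext (d : Data p F E) {P : Subgroup Ω} (R : Subgroup (MulAut P)) (a : MulAut P) : Prop :=
  ∃ χ ∈ (prodSys d).Hom (preim S P R),
    ∀ (y : P) (hy : (y : Ω) ∈ preim S P R), χ ⟨y, hy⟩ = a y

theorem ext_value (d : Data p F E) {P : Subgroup Ω} (hP : P ≤ S) {R : Subgroup (MulAut P)}
    (hR : Cfsg.Inn P ≤ R) {a : MulAut P} {χ : preim S P R →* Ω}
    (hχ : χ ∈ (prodSys d).Hom (preim S P R))
    (he : ∀ (y : P) (hy : (y : Ω) ∈ preim S P R), χ ⟨y, hy⟩ = a y) (g : preim S P R) :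
    ∃ hg : χ g ∈ normalizerIn S P, H85.conjAut S P ⟨χ g, hg⟩ =
      a * H85.conjAut S P ⟨(g : Ω), preim_le R g.2⟩ * a⁻¹ := by
  have : Finite P := H85.finite_of_le hP
  have hg : χ g ∈ normalizerIn S P := ⟨H85.map_mem hχ g,
    H85.extend_maps_normalizer (e := (a : P ≃* P)) (le_preim hP hR) (fun y => he y _)
      (preim_le R g.2).2⟩
  refine ⟨hg, ?_⟩
  rw [← H85.congr_eq_conj]
  exact H85.conjAut_map (e := (a : P ≃* P)) (le_preim hP hR) (fun y => he y _) g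
    (preim_le R g.2) hg

theorem ext_mono (d : Data p F E) {P : Subgroup Ω} {R R' : Subgroup (MulAut P)} (h : R' ≤ R)
    {a : MulAut P} (he : Ext d R a) : Ext d R' a := by
  obtain ⟨χ, hχ, he⟩ := he
  have hle : preim S P R' ≤ preim S P R := fun g hg => by
    obtain ⟨h1, h2⟩ := mem_preim.1 hg
    exact mem_preim.2 ⟨h1, h h2⟩
  exact ⟨_, H85.restrict hχ hle, fun y hy => he y (hle hy)⟩

theorem ext_mul (d : Data p F E) {P : Subgroup Ω} (hP : P ≤ S) {R R' : Subgroup (MulAut P)}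
    (hR : Cfsg.Inn P ≤ R) {a b : MulAut P} (hRa : ∀ r ∈ R, a * r * a⁻¹ ∈ R')
    (ha : Ext d R a) (hb : Ext d R' b) : Ext d R (b * a) := by
  obtain ⟨χ, hχ, hχe⟩ := ha
  obtain ⟨ψ, hψ, hψe⟩ := hb
  have hm : ∀ g, χ g ∈ preim S P R' := fun g => by
    obtain ⟨hg, he⟩ := ext_value d hP hR hχ hχe g
    refine mem_preim.2 ⟨hg, he ▸ hRa _ ?_⟩
    exact (mem_preim.1 g.2).choose_spec
  refine ⟨_, (prodSys d).comp_mem hχ hψ hm, fun y hy => ?_⟩
  show ψ ⟨χ ⟨y, hy⟩, _⟩ = _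
  exact (congrArg ψ (Subtype.ext (hχe y hy))).trans (hψe (a y) ((hχe y hy) ▸ hm _))

theorem ext_inv (d : Data p F E) {P : Subgroup Ω} (hP : P ≤ S)
    (hC : centralizerIn S P ≤ P) {R R' : Subgroup (MulAut P)} (hR : Cfsg.Inn P ≤ R)
    (hR' : R' ≤ autInducedBy S P) (hRS : R ≤ autInducedBy S P) {a : MulAut P}
    (hRa : ∀ r' ∈ R', a⁻¹ * r' * a ∈ R) (ha : Ext d R a) : Ext d R' a⁻¹ := by
  obtain ⟨χ, hχ, hχe⟩ := ha
  obtain ⟨ψ, hψ, hψe⟩ := (prodSys d).inv_mem hχ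
  have hPR := le_preim hP hR
  have hle : preim S P R' ≤ χ.range := by
    intro g hg
    obtain ⟨hgN, hgR⟩ := mem_preim.1 hg
    have h1 := hRS (hRa _ hgR)
    rw [← H85.conjAut_range] at h1
    obtain ⟨g₀, hg₀⟩ := h1
    have hg₀R : (g₀ : Ω) ∈ preim S P R := mem_preim.2 ⟨g₀.2, by rw [hg₀]; exact hRa _ hgR⟩
    obtain ⟨hv, hve⟩ := ext_value d hP hR hχ hχe ⟨g₀, hg₀R⟩
    have heq : H85.conjAut S P ⟨χ ⟨g₀, hg₀R⟩, hv⟩ = H85.conjAut S P ⟨g, hgN⟩ := by
      rw [hve, show H85.conjAut S P ⟨(g₀ : Ω), preim_le R hg₀R⟩ = H85.conjAut S P g₀ from rfl,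
        hg₀]
      group
    have hz : (⟨χ ⟨g₀, hg₀R⟩, hv⟩ : normalizerIn S P)⁻¹ * ⟨g, hgN⟩ ∈ (H85.conjAut S P).ker := by
      rw [MonoidHom.mem_ker, map_mul, map_inv, heq, inv_mul_cancel]
    have hzP := hC (H85.mem_conjAut_ker.1 hz)
    refine ⟨⟨g₀, hg₀R⟩ * ⟨(a⁻¹ ⟨_, hzP⟩ : P), hPR (a⁻¹ ⟨_, hzP⟩).2⟩, ?_⟩
    rw [map_mul, hχe, MulAut.apply_inv_self]
    show χ ⟨g₀, hg₀R⟩ * ((χ ⟨g₀, hg₀R⟩)⁻¹ * g) = g
    rw [mul_inv_cancel_left]
  refine ⟨_, H85.restrict hψ hle, fun y hy => ?_⟩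
  have h1 : χ ⟨(a⁻¹ y : P), hPR (a⁻¹ y).2⟩ = (y : Ω) := by
    rw [hχe, MulAut.apply_inv_self]
  show ψ ⟨(y : Ω), hle hy⟩ = _
  exact (congrArg ψ (Subtype.ext h1.symm)).trans (hψe ⟨(a⁻¹ y : P), hPR (a⁻¹ y).2⟩)

set_option maxHeartbeats 800000 in
/-- Every element of the group extends to the preimage of the automorphisms it keeps induced. -/
theorem Good.ext {d : Data p F E} {P : Subgroup Ω} (h : Good d P) {R : Subgroup (MulAut P)}
    (hR : Cfsg.Inn P ≤ R) (hRS : R ≤ autInducedBy S P) {a : MulAut P} (ha : a ∈ kGen d P)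
    (haR : ∀ r ∈ R, a * r * a⁻¹ ∈ autInducedBy S P) : Ext d R a := by
  classical
  have hPS := h.mem.1
  have hC := hs_centralizer d h.mem
  have : Finite P := H85.finite_of_le hPS
  have : Finite (MulAut P) := Finite.of_injective (fun e => (e : P → P)) DFunLike.coe_injective
  set Sy := autInducedBy S P with hSydef
  have hSyp : IsPGroup p Sy := H85.autInducedBy_isPGroup d.hS P
  have hSK : Sy ≤ kGen d P := le_sup_right
  obtain ⟨n, hn⟩ : ∃ n, Nat.card Sy - Nat.card R = n := ⟨_, rfl⟩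
  induction n using Nat.strong_induction_on generalizing R a with
  | _ n ih =>
  subst hn
  have hInn : ∀ (c : MulAut P) {R : Subgroup (MulAut P)}, Cfsg.Inn P ≤ R →
      Cfsg.Inn P ≤ R.map (MulAut.conj c).toMonoidHom := by
    rintro c R hR _ ⟨x, rfl⟩
    refine ⟨MulAut.conj (c⁻¹ x), hR ⟨_, rfl⟩, MulEquiv.ext fun y => ?_⟩
    show c (c⁻¹ x * c⁻¹ y * (c⁻¹ x)⁻¹) = x * y * x⁻¹
    rw [map_mul, map_mul, map_inv, MulAut.apply_inv_self, MulAut.apply_inv_self]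
  -- the automorphisms normalizing a subgroup with Sylow normalizer extend to it
  have hfix : ∀ R₀ : Subgroup (MulAut P), Cfsg.Inn P ≤ R₀ → R₀ ≤ Sy →
      ¬ p ∣ (Sy ⊓ Subgroup.normalizer (R₀ : Set (MulAut P))).relIndex
        (kGen d P ⊓ Subgroup.normalizer (R₀ : Set (MulAut P))) →
      ∀ ν ∈ kGen d P ⊓ Subgroup.normalizer (R₀ : Set (MulAut P)), Ext d R₀ ν := by
    intro R₀ hI hS₀ hidx ν hν
    set N₀ := kGen d P ⊓ Subgroup.normalizer (R₀ : Set (MulAut P)) with hN₀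
    have hnR : ∀ b ∈ N₀, ∀ r ∈ R₀, b * r * b⁻¹ ∈ R₀ := fun b hb r hr =>
      (Subgroup.mem_normalizer_iff.1 hb.2 r).1 hr
    let Z : Subgroup (MulAut P) :=
      { carrier := {b | b ∈ N₀ ∧ Ext d R₀ b}
        one_mem' := ⟨N₀.one_mem, _, H85.id_mem _ ((preim_le R₀).trans
          (H85.normalizerIn_le P)), fun _ _ => rfl⟩
        mul_mem' := fun {b c} hb hc =>
          ⟨N₀.mul_mem hb.1 hc.1, ext_mul d hPS hI (hnR c hc.1) hc.2 hb.2⟩
        inv_mem' := fun {b} hb => ⟨N₀.inv_mem hb.1, ext_inv d hPS hC hI hS₀ hS₀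
          (fun r hr => by simpa using hnR b⁻¹ (N₀.inv_mem hb.1) r hr) hb.2⟩ }
    obtain ⟨Q, hQ⟩ : ∃ Q : Sylow p N₀, (Q : Subgroup N₀) =
        (Sy ⊓ Subgroup.normalizer (R₀ : Set (MulAut P))).subgroupOf N₀ :=
      ⟨((hSyp.to_le inf_le_left).of_equiv (Subgroup.subgroupOfEquivOfLe
        (inf_le_inf_right _ hSK : Sy ⊓ _ ≤ N₀)).symm).toSylow hidx, rfl⟩
    have hQZ : (Q : Subgroup N₀) ≤ Z.subgroupOf N₀ := by
      intro b hb
      rw [hQ] at hb
      refine ⟨b.2, ?_⟩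
      obtain ⟨g, hg, hge⟩ := H85.mem_autInducedBy.1 (hb.1 : (b : MulAut P) ∈ autInducedBy S P)
      exact ⟨_, (prodSys d).conj_mem ((preim_le R₀).trans (H85.normalizerIn_le P)) hg,
        fun y _ => (hge y).symm⟩
    have htop := CLift.eq_top_of_coprime _ Q hQZ fun b hb => by
      refine ⟨b.2, ?_⟩
      have hbN := kGen_le_naive d hPS b.2.1
      obtain ⟨χ, hχ, hχe⟩ := h.extend_coprime (le_preim hPS hI) (preim_le R₀) hbN
        (by rw [Subgroup.orderOf_coe]; exact hb) (fun m hm => by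
          obtain ⟨hmN, hmR⟩ := mem_preim.1 hm
          have h1 := hS₀ (hnR b b.2 _ hmR)
          rw [hSydef, ← H85.conjAut_range] at h1
          obtain ⟨m', hm'⟩ := h1
          refine ⟨m', mem_preim.2 ⟨m'.2, hm'.symm ▸ hnR b b.2 _ hmR⟩, fun y hy => ?_⟩
          have h2 := congrArg (fun c : MulAut P => (c y : Ω)) hm'
          exact h2.symm.trans rfl)
      exact ⟨χ, hχ, fun y _ => hχe y⟩
    exact ((htop ▸ Subgroup.mem_top (⟨ν, hν⟩ : N₀) :
      (⟨ν, hν⟩ : N₀) ∈ Z.subgroupOf N₀) : ν ∈ Z).2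
  obtain ⟨d₀, hd₀, hd₀R, hd₀B, hidx⟩ := exists_normalizer_sylow hSyp hSK h.sylow hRS
  set R₀ := R.map (MulAut.conj d₀).toMonoidHom with hR₀
  have hR₀S : R₀ ≤ Sy := by
    rintro _ ⟨r, hr, rfl⟩
    exact hd₀R r hr
  rcases eq_or_lt_of_le hRS with heq | hlt
  · -- `R = Aut_S(P)`
    subst heq
    have hself : R₀ = Sy := Subgroup.eq_of_le_of_card_ge hR₀S
      (Subgroup.card_map_of_injective (MulAut.conj d₀).injective).ge
    refine hfix Sy hR le_rfl (by rwa [hself] at hidx) a ⟨ha, ?_⟩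
    refine H85.mem_normalizer_of_conj ?_
    exact haR
  have hgrow : ∀ R₁ : Subgroup (MulAut P), R₁ < Sy →
      Nat.card R₁ < Nat.card ↥(Sy ⊓ Subgroup.normalizer (R₁ : Set (MulAut P))) := by
    intro R₁ h₁
    obtain ⟨g, hg, hgN, hgR⟩ := H85.exists_normalizing hSyp le_rfl h₁
    exact H85.card_lt_of_lt (le_refl (Sy ⊓ Subgroup.normalizer (R₁ : Set (MulAut P))))
      (SetLike.lt_iff_le_and_exists.2
        ⟨le_inf h₁.le Subgroup.le_normalizer, g, Subgroup.mem_inf.2 ⟨hg, hgN⟩, hgR⟩)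
  have hrec : ∀ R₁ : Subgroup (MulAut P), Cfsg.Inn P ≤ R₁ → R₁ < Sy →
      Nat.card R₁ = Nat.card R → ∀ b ∈ kGen d P,
      (∀ c ∈ Sy ⊓ Subgroup.normalizer (R₁ : Set (MulAut P)), b * c * b⁻¹ ∈ Sy) →
      Ext d R₁ b := by
    intro R₁ h₁ h₂ hc b hb hbN
    have hle : R₁ ≤ Sy ⊓ Subgroup.normalizer (R₁ : Set (MulAut P)) :=
      le_inf h₂.le Subgroup.le_normalizer
    have h3 := hgrow R₁ h₂
    have h4 := Subgroup.card_le_of_le
      (inf_le_left : Sy ⊓ Subgroup.normalizer (R₁ : Set (MulAut P)) ≤ Sy)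
    exact ext_mono d hle (ih _ (by omega) (h₁.trans hle) hb inf_le_left hbN rfl)
  have hd₀E := hrec R hR hlt rfl d₀ hd₀ hd₀B
  set R' := R.map (MulAut.conj a).toMonoidHom with hR'
  have hR'c : Nat.card R' = Nat.card R :=
    Subgroup.card_map_of_injective (MulAut.conj a).injective
  have hR'S : R' < Sy := by
    refine lt_of_le_of_ne (by rintro _ ⟨r, hr, rfl⟩; exact haR r hr) fun he => ?_
    have h1 : Nat.card R < Nat.card Sy := H85.card_lt_of_lt le_rfl hlt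
    rw [← hR'c, he] at h1
    exact lt_irrefl _ h1
  -- move the normalizer of `R'` into that of `R₀`
  set N₀ := kGen d P ⊓ Subgroup.normalizer (R₀ : Set (MulAut P)) with hN₀
  set c₁ := d₀ * a⁻¹ with hc₁
  have hc₁K : c₁ ∈ kGen d P := (kGen d P).mul_mem hd₀ ((kGen d P).inv_mem ha)
  have hR'₀ : R'.map (MulAut.conj c₁).toMonoidHom = R₀ := by
    rw [hR', Subgroup.map_map, hR₀]
    congr 1
    refine MonoidHom.ext fun r => ?_
    show c₁ * (a * r * a⁻¹) * c₁⁻¹ = d₀ * r * d₀⁻¹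
    rw [hc₁]
    group
  have himg : (Sy ⊓ Subgroup.normalizer (R' : Set (MulAut P))).map
      (MulAut.conj c₁).toMonoidHom ≤ N₀ := by
    rintro _ ⟨c, hc, rfl⟩
    refine ⟨(kGen d P).mul_mem ((kGen d P).mul_mem hc₁K (hSK hc.1)) ((kGen d P).inv_mem hc₁K), ?_⟩
    have h1 := Subgroup.map_equiv_normalizer_eq R' (MulAut.conj c₁)
    rw [hR'₀] at h1
    exact h1.le ⟨c, hc.2, rfl⟩
  obtain ⟨n₁, hn₁, hn₁B⟩ := exists_conj_mem_of_relIndex (hSyp.to_le inf_le_left)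
    (inf_le_inf_right _ hSK : Sy ⊓ _ ≤ N₀) hidx himg ((hSyp.to_le inf_le_left).map _)
  have hd₁ : n₁ * c₁ ∈ kGen d P := (kGen d P).mul_mem hn₁.1 hc₁K
  have hd₁E := hrec R' (hInn a hR) hR'S hR'c (n₁ * c₁) hd₁ fun c hc => by
    have h1 := (hn₁B _ ⟨c, hc, rfl⟩).1
    show n₁ * c₁ * c * (n₁ * c₁)⁻¹ ∈ Sy
    rwa [show n₁ * c₁ * c * (n₁ * c₁)⁻¹ = n₁ * (c₁ * c * c₁⁻¹) * n₁⁻¹ by group]
  have hnR : ∀ r ∈ R₀, n₁ * r * n₁⁻¹ ∈ R₀ := fun r hr =>
    (Subgroup.mem_normalizer_iff.1 hn₁.2 r).1 hr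
  have hnR' : ∀ r ∈ R₀, n₁⁻¹ * r * n₁ ∈ R₀ := fun r hr => by
    simpa using (Subgroup.mem_normalizer_iff.1 (N₀.inv_mem hn₁).2 r).1 hr
  have hd₁i : Ext d R₀ (n₁ * c₁)⁻¹ := ext_inv d hPS hC (hInn a hR) hR₀S hR'S.le (fun r hr => by
    have h1 := hnR' r hr
    obtain ⟨r', hr', he⟩ := hR'₀.ge h1
    have he' : c₁ * r' * c₁⁻¹ = n₁⁻¹ * r * n₁ := he
    rwa [show (n₁ * c₁)⁻¹ * r * (n₁ * c₁) = c₁⁻¹ * (n₁⁻¹ * r * n₁) * c₁ by group, ← he',
      show c₁⁻¹ * (c₁ * r' * c₁⁻¹) * c₁ = r' by group]) hd₁E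
  have hn₁E := hfix R₀ (hInn d₀ hR) hR₀S hidx n₁ hn₁
  have hall := ext_mul d hPS hR (R' := R₀) (fun r hr => ⟨r, hr, rfl⟩) hd₀E
    (ext_mul d hPS (hInn d₀ hR) (R' := R₀) hnR hn₁E hd₁i)
  rwa [show (n₁ * c₁)⁻¹ * n₁ * d₀ = a by rw [hc₁]; group] at hall

end H86.SE
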