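import Cfsg.Agent.H86.SE.Sys
import Cfsg.Agent.H85.HSaturated2
import Cfsg.Agent.H86.PrimeLocal
import Cfsg.Agent.H85.LocalSystems

/-! Automorphisms fixing a fully normalized subgroup and trivial modulo it are induced from the
centralizer. -/

set_option autoImplicit false
set_option linter.unusedSectionVars false

open Cfsg Cfsg.FusionSystem

namespace H86.SE

variable {Ω : Type*} [Group Ω] {S T : Subgroup Ω} [Finite S] {p : ℕ} [Fact p.Prime]
  {F : FusionSystem S} {E : FusionSystem T}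

/-- The automorphisms fixing `U` and trivial modulo it. -/
def fixTriv (U D : Subgroup Ω) : Subgroup (MulAut D) where
  carrier := {k | (∀ x : D, (x : Ω) ∈ U → k x = x) ∧ ∀ x : D, (x : Ω)⁻¹ * k x ∈ U}
  one_mem' := ⟨fun _ _ => rfl, fun x => by simp⟩
  mul_mem' := by
    intro k l hk hl
    exact ⟨fun x hx => by rw [MulAut.mul_apply, hl.1 x hx, hk.1 x hx],
      (trivMod U D).mul_mem hk.2 hl.2⟩
  inv_mem' := by
    intro k hk
    refine ⟨fun x hx => ?_, (trivMod U D).inv_mem hk.2⟩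
    exact k.injective (by rw [MulAut.apply_inv_self, hk.1 x hx])

theorem mem_fixTriv {U D : Subgroup Ω} {k : MulAut D} :
    k ∈ fixTriv U D ↔ (∀ x : D, (x : Ω) ∈ U → k x = x) ∧ k ∈ trivMod U D := Iff.rfl

theorem fixTriv_pow {U D : Subgroup Ω} (hS : IsPGroup p S) (hD : D ≤ S) {k : MulAut D}
    (hk : k ∈ fixTriv U D) : ∃ j : ℕ, k ^ p ^ j = 1 :=
  have := H85.finite_of_le hD
  pow_eq_one_trivMod (hS.to_le hD) hk.2 hk.1

theorem fixTriv_coprime {U D : Subgroup Ω} (hS : IsPGroup p S) (hD : D ≤ S) {k : MulAut D}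
    (hk : k ∈ fixTriv U D) (hord : (orderOf k).Coprime p) : k = 1 := by
  obtain ⟨j, hj⟩ := fixTriv_pow hS hD hk
  rw [← orderOf_eq_one_iff]
  exact Nat.eq_one_of_dvd_coprimes (Nat.Coprime.pow_right j hord) dvd_rfl
    (orderOf_dvd_of_pow_eq_one hj)

theorem fixTriv_conj {U D : Subgroup Ω} {a k : MulAut D}
    (ha : ∀ x : D, (x : Ω) ∈ U → ((a x : D) : Ω) ∈ U)
    (ha' : ∀ x : D, (x : Ω) ∈ U → ((a⁻¹ x : D) : Ω) ∈ U) (hk : k ∈ fixTriv U D) :
    a * k * a⁻¹ ∈ fixTriv U D := by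
  refine ⟨fun x hx => ?_, fun x => ?_⟩
  · rw [MulAut.mul_apply, MulAut.mul_apply, hk.1 _ (ha' x hx), MulAut.apply_inv_self]
  · have h1 := ha ((a⁻¹ x)⁻¹ * k (a⁻¹ x)) (hk.2 (a⁻¹ x))
    rw [map_mul, map_inv, MulAut.apply_inv_self] at h1
    exact h1

theorem pc_le_normalizerIn_self {U : Subgroup Ω} (hU : U ≤ S) :
    normalizerIn S U ≤ normalizerIn (normalizerIn S U) (pc S U) := by
  intro g hg
  have : Finite (pc S U) := H85.finite_of_le (pc_le hU)
  refine ⟨hg, H85.mem_normalizer_of_conj fun x hx => ?_⟩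
  obtain ⟨q, hq, w, hw, rfl⟩ := mem_pc hx
  rw [show g * (q * w) * g⁻¹ = g * q * g⁻¹ * (g * w * g⁻¹) by group]
  refine mul_mem (Subgroup.mem_sup_left (H85.conj_mem_of_mem_normalizer hg.2 hq))
    (Subgroup.mem_sup_right (H85.mem_centralizerIn.2
      ⟨mul_mem (mul_mem hg.1 hw.1) (inv_mem hg.1), fun u hu => ?_⟩))
  have h1 := (H85.mem_centralizerIn.1 hw).2 _ (H85.conj_mem_of_mem_normalizer' hg.2 hu)
  calc u * (g * w * g⁻¹) = g * ((g⁻¹ * u * g) * w) * g⁻¹ := by group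
    _ = g * (w * (g⁻¹ * u * g)) * g⁻¹ := by rw [h1]
    _ = g * w * g⁻¹ * u := by group

/-- An automorphism in `F` stabilizing `U` is an automorphism in `N_F(U)`. -/
theorem mem_nSys_aut {U : Subgroup Ω} (hUS : U ≤ S) {Y : Subgroup Ω}
    (hYN : Y ≤ normalizerIn S U) (hUY : U ≤ Y) {c : MulAut Y} (hc : c ∈ F.autGroup Y)
    (hcU : ∀ x : Y, (x : Ω) ∈ U → ((c x : Y) : Ω) ∈ U) :
    c ∈ (H85.normalizerSystem F U hUS).autGroup Y := by
  have hY : Y ≤ S := hYN.trans (H85.normalizerIn_le U)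
  have : Finite Y := H85.finite_of_le hY
  have : Finite (normalizerIn S U) := H85.finite_of_le (H85.normalizerIn_le U)
  have hcF := (H85.mem_autGroup hY).1 hc
  have hle : Y ⊔ U ≤ Y := sup_le le_rfl hUY
  refine (H85.mem_autGroup hYN).2 (H85.mem_normalizerHom.2 ⟨hcF, hYN, fun x => hYN (c x).2,
    _, H85.restrict hcF hle, fun x => rfl, ?_⟩)
  exact img_eq_of_mapsTo (H85.restrict hcF hle) le_sup_right fun z hz => hcU _ hz

theorem nSys_stab {U : Subgroup Ω} {hUS : U ≤ S} {Y : Subgroup Ω} (hYN : Y ≤ normalizerIn S U)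
    {b : MulAut Y} (hb : b ∈ (H85.normalizerSystem F U hUS).autGroup Y) (x : Y)
    (hx : (x : Ω) ∈ U) : ((b x : Y) : Ω) ∈ U := by
  have : Finite (normalizerIn S U) := H85.finite_of_le (H85.normalizerIn_le U)
  obtain ⟨-, -, -, ψ, -, hext, himg⟩ := H85.mem_normalizerHom.1 ((H85.mem_autGroup hYN).1 hb)
  have h1 : ψ (Subgroup.inclusion le_sup_left x) = (b x : Ω) := hext x
  rw [← h1]
  exact himg.le (H85.apply_mem_img (φ := ψ) (x := Subgroup.inclusion le_sup_left x) hx)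

/-- Automorphisms fixing `U` and trivial modulo it are induced by `C_S(U)` at the fully normalized
subgroups of `N_F(U)`. -/
theorem exists_induced_fix_of_fn (hS : IsPGroup p S) (hF : F.IsSaturated p) {U : Subgroup Ω}
    (hU : F.IsFullyNormalized U) {Y : Subgroup Ω} (hUY : U ≤ Y)
    (hfn : (H85.normalizerSystem F U hU.1).IsFullyNormalized Y)
    {k : MulAut Y} (hk : k ∈ F.autGroup Y) (hkf : k ∈ fixTriv U Y) :
    ∃ h ∈ centralizerIn S U, ∀ x : Y, (k x : Ω) = h * (x : Ω) * h⁻¹ := by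
  have hUS := hU.1
  have hYN : Y ≤ normalizerIn S U := hfn.1
  have hY : Y ≤ S := hYN.trans (H85.normalizerIn_le U)
  have : Finite Y := H85.finite_of_le hY
  have : Finite (normalizerIn S U) := H85.finite_of_le (H85.normalizerIn_le U)
  have hNp : IsPGroup p (normalizerIn S U) := hS.to_le (H85.normalizerIn_le U)
  have hN : (H85.normalizerSystem F U hUS).IsSaturated p :=
    H85.isSaturated_normalizerSystem hS hF hU _ (H85.normalizerSystem_spec F U hUS)
  have hfa := H85.fullyAutomized_of_fullyNormalized hNp hN hfn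
  set A := (H85.normalizerSystem F U hUS).autGroup Y with hAdef
  have hmem : ∀ c ∈ F.autGroup Y, c ∈ fixTriv U Y → c ∈ A := fun c hc hcf =>
    mem_nSys_aut hUS hYN hUY hc fun x hx => by rw [hcf.1 x hx]; exact hx
  have hstab : ∀ b ∈ A, ∀ x : Y, (x : Ω) ∈ U → ((b x : Y) : Ω) ∈ U :=
    fun b hb x hx => nSys_stab hYN hb x hx
  let K : Subgroup (MulAut Y) := A ⊓ fixTriv U Y
  have hKp : IsPGroup p K := fun c => by
    obtain ⟨j, hj⟩ := fixTriv_pow hS hY c.2.2
    exact ⟨j, Subtype.ext hj⟩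
  obtain ⟨β, hβ, hc⟩ := H85.fullyAutomized_conj hfa (inf_le_left : K ≤ _) hKp
  have hβk : β⁻¹ * k * β ∈ K := by
    refine ⟨A.mul_mem (A.mul_mem (A.inv_mem hβ) (hmem k hk hkf)) hβ, ?_⟩
    have h1 := fixTriv_conj (a := β⁻¹) (hstab _ (A.inv_mem hβ))
      (by rw [inv_inv]; exact hstab _ hβ) hkf
    rwa [inv_inv] at h1
  have h := hc _ hβk
  rw [show β * (β⁻¹ * k * β) * β⁻¹ = k by group] at h
  obtain ⟨h, hh, hhx⟩ := H85.mem_autInducedBy.1 h
  refine ⟨h, H85.mem_centralizerIn.2 ⟨hh.1, fun u hu => ?_⟩, hhx⟩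
  have h1 := hhx ⟨u, hUY hu⟩
  rw [hkf.1 ⟨u, hUY hu⟩ hu] at h1
  calc u * h = (h * u * h⁻¹) * h := by rw [← h1]
    _ = h * u := by group

/-- At `U C_S(U)`, `U` fully normalized, such automorphisms are induced by `C_S(U)`. -/
theorem exists_induced_fix (hS : IsPGroup p S) (hF : F.IsSaturated p) {U : Subgroup Ω}
    (hU : F.IsFullyNormalized U) {k : MulAut (pc S U)} (hk : k ∈ F.autGroup (pc S U))
    (hkf : k ∈ fixTriv U (pc S U)) :
    ∃ h ∈ centralizerIn S U, ∀ x : pc S U, (k x : Ω) = h * (x : Ω) * h⁻¹ := by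
  have : Finite (normalizerIn S U) := H85.finite_of_le (H85.normalizerIn_le U)
  refine exists_induced_fix_of_fn hS hF hU le_sup_left ⟨pc_le_normalizerIn hU.1, fun Q _ =>
    (Subgroup.card_le_of_le (H85.normalizerIn_le Q)).trans ?_⟩ hk hkf
  have : Finite (normalizerIn S U) := H85.finite_of_le (H85.normalizerIn_le U)
  have : Finite (normalizerIn (normalizerIn S U) (pc S U)) :=
    H85.finite_of_le (H85.normalizerIn_le _)
  exact Subgroup.card_le_of_le (pc_le_normalizerIn_self hU.1)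

end H86.SE
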