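import Cfsg.Agent.H86.SE.Sys
import Cfsg.Agent.H89.KeyCharts
import Cfsg.Agent.H86.CentralLift.LiftSys

/-! Charts at the subgroups of the base, and `E` lies in the product above the saturated range. -/

set_option autoImplicit false
set_option linter.unusedSectionVars false

open Cfsg Cfsg.FusionSystem

namespace H86.SE

variable {Ω : Type*} [Group Ω] {S T : Subgroup Ω} [Finite S] {p : ℕ} [Fact p.Prime]
  {F : FusionSystem S} {E : FusionSystem T}

theorem closed_prodSys (d : Data p F E) : (prodSys d).StronglyClosed T :=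
  ⟨d.le_base, fun R hR _ hφ => d.closedT.2 R hR _ (prodSys_sub d _ hφ)⟩

theorem satAbove_mono (d : Data p F E) {m n : ℕ} (h : SatAbove d m) (hmn : m ≤ n) :
    SatAbove d n := fun R hR hlt => h R hR (lt_of_le_of_lt hmn hlt)

theorem img_id {P A : Subgroup Ω} (h : A ≤ P) : H85.img P.subtype A = A := by
  refine le_antisymm (fun y hy => ?_) fun y hy => H85.mem_img.2 ⟨⟨y, h hy⟩, hy, rfl⟩
  obtain ⟨x, hx, rfl⟩ := H85.mem_img.1 hy
  exact hx

/-- The normalizers of a class inside `T` go into the normalizer of its fully normalized member. -/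
theorem chart_base (d : Data p F E) {U U₁ Q : Subgroup Ω} (hU : U ≤ T)
    (hsat : SatAbove d (Nat.card U)) (hc : (prodSys d).IsConj U U₁)
    (hn : (prodSys d).IsFullyNormalized U₁) (hQ : (prodSys d).IsConj U Q) :
    ∃ χ ∈ (prodSys d).Hom (normalizerIn S Q),
      (∀ x, χ x ∈ normalizerIn S U₁) ∧ H85.img χ Q = U₁ := by
  have := d.finT
  have hT : ∀ {A : Subgroup Ω}, (prodSys d).IsConj U A → A ≤ T := by
    rintro A ⟨φ, hφ, rfl⟩ _ ⟨x, rfl⟩
    exact (closed_prodSys d).2 U hU φ hφ x
  rcases eq_or_lt_of_le hU with rfl | hlt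
  · have h1 : U₁ = U := Subgroup.eq_of_le_of_card_ge (hT hc) (H85.isConj_card hc).le
    have h2 : Q = U := Subgroup.eq_of_le_of_card_ge (hT hQ) (H85.isConj_card hQ).le
    subst h2
    rw [h1]
    exact ⟨_, H85.id_mem _ (H85.normalizerIn_le _), fun x => x.2,
      img_id (H85.le_normalizerIn d.le_base)⟩
  refine H89.KeyCrit.charts_exists d.hS (prodSys d) (Gen d) (gen_sub d) (gen_le d)
    (closed_prodSys d) hlt (fun R f hf A hA hcA => ?_) (fun A R hcA hlt' hR => ?_) hc hn hQ
  · rcases eq_or_lt_of_le (le_inf hA (hT hcA)) with h | h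
    · right
      rw [h, img_inf d (prodSys_sub d _ (gen_sub d R hf)), gen_range d hf]
    · exact Or.inl h
  · refine hsat R hR ?_
    rw [H85.isConj_card hcA]
    exact H85.card_lt_of_lt (inf_le_left.trans hR) hlt'

/-- The maps of `E` between subgroups of order `n` preserve the classes of the product. -/
theorem isConj_of_mapE (d : Data p F E) {n : ℕ}
    (hHi : ∀ V : Subgroup Ω, V ≤ T → n < Nat.card V → E.Hom V ⊆ (prodSys d).Hom V)
    {U : Subgroup Ω} {e : U →* Ω} (he : e ∈ E.Hom U) (hn : n ≤ Nat.card U) :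
    (prodSys d).IsConj U e.range := by
  have := d.finT
  suffices H : ∀ A ≤ U, n ≤ Nat.card A → (prodSys d).IsConj A (H85.img e A) by
    have h := H U le_rfl hn
    rwa [H85.img_self] at h
  refine induction_within d.pT d.satE (stronglyClosed_self E)
    (fun P φ => ∀ A ≤ P, n ≤ Nat.card A → (prodSys d).IsConj A (H85.img φ A)) ?_ ?_ ?_ ?_ U
    (H85.source_le he) e he
  · intro P Q φ hPQ hQ hφ h A hA hAn
    have h1 := h A (hA.trans hPQ) hAn
    rwa [H85.img_congr (U := A) (φ := φ.comp (Subgroup.inclusion hPQ)) hA (hA.trans hPQ)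
      fun x => rfl]
  · intro P Q R f g hP hQ hR hf hg h h' A hA hAn
    have h1 := h A hA hAn
    have hle : H85.img (Q.subtype.comp f.toMonoidHom) A ≤ Q := by
      rintro y hy
      obtain ⟨x, -, rfl⟩ := H85.mem_img.1 hy
      exact (f x).2
    have h2 := h' _ hle (H85.isConj_card h1 ▸ hAn)
    have h3 : H85.img (R.subtype.comp (f.trans g).toMonoidHom) A =
        H85.img (R.subtype.comp g.toMonoidHom) (H85.img (Q.subtype.comp f.toMonoidHom) A) :=
      H85.img_img (φ := Q.subtype.comp f.toMonoidHom) (ψ := R.subtype.comp g.toMonoidHom)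
        (U := A) (fun x => (f x).2) hf
    rw [h3]
    exact H85.isConj_trans h1 h2
  · intro P Q f hP hQ hf h A hA hAn
    have hle : H85.img (P.subtype.comp f.symm.toMonoidHom) A ≤ P := by
      rintro y hy
      obtain ⟨x, -, rfl⟩ := H85.mem_img.1 hy
      exact (f.symm x).2
    have himg : H85.img (Q.subtype.comp f.toMonoidHom)
        (H85.img (P.subtype.comp f.symm.toMonoidHom) A) = A := by
      refine le_antisymm ?_ ?_
      · intro y hy
        obtain ⟨x, hx, rfl⟩ := H85.mem_img.1 hy
        obtain ⟨z, hz, hzx⟩ := H85.mem_img.1 hx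
        have : x = f.symm z := Subtype.ext hzx.symm
        subst this
        show (f (f.symm z) : Ω) ∈ A
        rwa [f.apply_symm_apply]
      · intro y hy
        exact H85.mem_img.2 ⟨f.symm ⟨y, hA hy⟩, H85.apply_mem_img
          (φ := P.subtype.comp f.symm.toMonoidHom) (x := ⟨y, hA hy⟩) hy,
          congrArg Subtype.val (f.apply_symm_apply _)⟩
    have hcard : n ≤ Nat.card (H85.img (P.subtype.comp f.symm.toMonoidHom) A) :=
      hAn.trans (H85.isConj_card (H85.isConj_img hf.symm hA)).le
    have h1 := h _ hle hcard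
    rw [himg] at h1
    exact H85.isConj_symm h1
  · intro W hW _ _ α hα A hA hAn
    have hαE := (H85.mem_autGroup hW).1 hα
    have : Finite W := H85.finite_of_le hW
    by_cases hlt : n < Nat.card W
    · exact H85.isConj_img (hHi W hW hlt hαE) hA
    · have hWA : A = W := Subgroup.eq_of_le_of_card_ge hA (by omega)
      subst hWA
      rw [H85.img_self, H85.IsFIso.range_eq α]
      exact H85.isConj_refl _ (hW.trans d.le_base)

/-- A conjugate in the naive product of a subgroup of `T` is a conjugate in the product. -/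
theorem isConj_of_naive (d : Data p F E) {n : ℕ}
    (hHi : ∀ V : Subgroup Ω, V ≤ T → n < Nat.card V → E.Hom V ⊆ (prodSys d).Hom V)
    {U W : Subgroup Ω} (hU : U ≤ T) (hn : n ≤ Nat.card U) (h : (naive d).IsConj U W) :
    (prodSys d).IsConj U W := by
  obtain ⟨φ, hφ, rfl⟩ := h
  obtain ⟨s, hs, e, he, hee⟩ := frattini_naive d hU hφ
  refine H85.isConj_trans (isConj_of_mapE d hHi he hn) ?_
  refine ⟨Cfsg.conjHom e.range s, (prodSys d).conj_mem
    ((H85.range_le he).trans d.le_base) hs, le_antisymm ?_ ?_⟩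
  · rintro _ ⟨⟨_, x, rfl⟩, rfl⟩
    exact ⟨x, hee x⟩
  · rintro _ ⟨x, rfl⟩
    exact ⟨⟨e x, x, rfl⟩, (hee x).symm⟩

/-- A fully normalized subgroup of the product inside `T`, with saturation and `E` known above. -/
structure IsTop (d : Data p F E) (U : Subgroup Ω) : Prop where
  le : U ≤ T
  fn : (prodSys d).IsFullyNormalized U
  sat : SatAbove d (Nat.card U)
  high : ∀ V : Subgroup Ω, V ≤ T → Nat.card U < Nat.card V → E.Hom V ⊆ (prodSys d).Hom V

theorem IsTop.chart {d : Data p F E} {U : Subgroup Ω} (h : IsTop d U) {W : Subgroup Ω}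
    (hW : (naive d).IsConj U W) : ∃ χ ∈ (prodSys d).Hom (normalizerIn S W),
      (∀ x, χ x ∈ normalizerIn S U) ∧ H85.img χ W = U :=
  chart_base d h.le h.sat (H85.isConj_refl _ (h.le.trans d.le_base)) h.fn
    (isConj_of_naive d h.high h.le le_rfl hW)

theorem IsTop.fnE {d : Data p F E} {U : Subgroup Ω} (h : IsTop d U) :
    E.IsFullyNormalized U := by
  have := d.finT
  refine ⟨h.le, fun W hW => ?_⟩
  obtain ⟨φ, hφ, rfl⟩ := hW
  obtain ⟨χ, hχ, hχN, -⟩ := h.chart ⟨φ, subE_naive d _ hφ, rfl⟩
  have hle : normalizerIn T φ.range ≤ normalizerIn S φ.range := inf_le_inf_right _ d.le_base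
  have hm : ∀ y : normalizerIn T φ.range, χ (Subgroup.inclusion hle y) ∈ normalizerIn T U :=
    fun y => ⟨(d.mapT (prodSys_sub d _ hχ) _).2 y.2.1, (hχN _).2⟩
  have : Finite (normalizerIn T U) := H85.finite_of_le (H85.normalizerIn_le U)
  exact Nat.card_le_card_of_injective (fun y => (⟨_, hm y⟩ : normalizerIn T U)) fun a b hab =>
    Subgroup.inclusion_injective hle ((prodSys d).injective_of_mem hχ (congrArg Subtype.val hab))

theorem IsTop.card_centralizer {d : Data p F E} {U : Subgroup Ω} (h : IsTop d U)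
    {W : Subgroup Ω} (hW : (naive d).IsConj U W) :
    Nat.card (centralizerIn S W) ≤ Nat.card (centralizerIn S U) := by
  obtain ⟨χ, hχ, -, himg⟩ := h.chart hW
  have hWS : W ≤ S := (H85.isConj_le hW).2
  let e := (H85.resIso χ ((prodSys d).injective_of_mem hχ) (H85.le_normalizerIn hWS)).trans
    (MulEquiv.subgroupCongr himg)
  have hm : ∀ y : centralizerIn S W,
      χ (Subgroup.inclusion (H85.centralizerIn_le_normalizerIn W) y) ∈ centralizerIn S U := fun y =>
    H85.extend_maps_centralizer (e := e) (H85.le_normalizerIn hWS) (fun _ => rfl)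
      (H85.map_mem hχ _) y.2
  have : Finite (centralizerIn S U) := H85.finite_of_le (H85.centralizerIn_le U)
  exact Nat.card_le_card_of_injective (fun y => (⟨_, hm y⟩ : centralizerIn S U)) fun a b hab =>
    Subgroup.inclusion_injective (H85.centralizerIn_le_normalizerIn W)
      ((prodSys d).injective_of_mem hχ (congrArg Subtype.val hab))

/-- Subgroups over a centric top subgroup containing its centralizer are admissible. -/
theorem IsTop.mem_hs {d : Data p F E} {U : Subgroup Ω} (h : IsTop d U) (hc : E.IsCentric U)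
    {P : Subgroup Ω} (hP : P ≤ S) (hPU : P ⊓ T = U) (hC : centralizerIn S U ≤ P) : P ∈ Hs d := by
  subst hPU
  refine ⟨hP, fun φ hφ => ?_⟩
  have hφF := naive_sub d _ hφ
  have hW : (naive d).IsConj (P ⊓ T) (φ.range ⊓ T) := by
    rw [← img_inf d hφF]
    exact H85.isConj_img hφ inf_le_left
  refine ⟨centric_of_conj d.hE.1 hc ?_, ?_⟩
  · rw [← img_inf d hφF]
    exact H85.isConj_img hφF inf_le_left
  · have hle : H85.img φ (centralizerIn S (P ⊓ T)) ≤ centralizerIn S (φ.range ⊓ T) := by
      intro y hy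
      obtain ⟨x, hx, rfl⟩ := H85.mem_img.1 hy
      exact H85.extend_maps_centralizer
        (e := (H85.resIso φ (F.injective_of_mem hφF) inf_le_left).trans
          (MulEquiv.subgroupCongr (img_inf d hφF)))
        inf_le_left (fun _ => rfl) (H85.map_mem hφ x) hx
    have : Finite (centralizerIn S (φ.range ⊓ T)) := H85.finite_of_le (H85.centralizerIn_le _)
    have heq := Subgroup.eq_of_le_of_card_ge hle
      ((h.card_centralizer hW).trans (H85.isConj_card (H85.isConj_img hφ hC)).le)
    exact heq.ge.trans (H85.img_le_range φ)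

theorem IsTop.pc_mem_hs {d : Data p F E} {U : Subgroup Ω} (h : IsTop d U) (hc : E.IsCentric U) :
    pc S U ∈ Hs d :=
  h.mem_hs hc (pc_le (h.le.trans d.le_base))
    (le_antisymm (fun _ hx => inf_pc_le hc hx.2 hx.1) (le_inf le_sup_left h.le)) le_sup_right

/-- Automorphisms in `E` of a centric top subgroup lie in the product. -/
theorem IsTop.autE_le {d : Data p F E} {U : Subgroup Ω} (h : IsTop d U) (hc : E.IsCentric U) :
    E.autGroup U ≤ (prodSys d).autGroup U := by
  have := d.finT
  have hUS := h.le.trans d.le_base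
  have : Finite U := H85.finite_of_le hUS
  obtain ⟨-, R, hR⟩ := H85.fullyAutomized_of_fullyNormalized d.pT d.satE h.fnE
  have hRM : (R : Subgroup (E.autGroup U)) ≤
      ((prodSys d).autGroup U).subgroupOf (E.autGroup U) := by
    intro a ha
    rw [hR] at ha
    obtain ⟨t, ht, hte⟩ := H85.mem_autInducedBy.1 (ha : (a : MulAut U) ∈ autInducedBy T U)
    exact H85.autInducedBy_le_autGroup _ hUS
      (H85.mem_autInducedBy.2 ⟨t, d.le_base ht, hte⟩)
  have htop := CLift.eq_top_of_coprime _ R hRM fun b hb => by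
    obtain ⟨f, hf, hft, hfe⟩ := extAt_normal d.hS d.hE hc _ b.2
    have hY := h.pc_mem_hs hc
    have : Finite (pc S U) := H85.finite_of_le hY.1
    obtain ⟨n, hn, hbn⟩ := exists_exp_coprime (p := p) f (b : MulAut U)
      (by rw [Subgroup.orderOf_coe]; exact hb)
    have hpow : ∀ m : ℕ, ∀ x : U, ((f ^ m) (Subgroup.inclusion le_sup_left x) : Ω) =
        (((b : MulAut U) ^ m) x : Ω) := by
      intro m
      induction m with
      | zero => intro x; rfl
      | succ m ih =>
        intro x
        rw [pow_succ', pow_succ', MulAut.mul_apply, MulAut.mul_apply,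
          show (f ^ m) (Subgroup.inclusion le_sup_left x) =
            Subgroup.inclusion le_sup_left (((b : MulAut U) ^ m) x) from Subtype.ext (ih x)]
        exact hfe _
    have hres : ∀ x : U, ((f ^ n) (Subgroup.inclusion le_sup_left x) : Ω) = (b : MulAut U) x :=
      fun x => by rw [hpow, hbn]
    have hfn : f ^ n ∈ trivMod U (pc S U) := pow_mem hft n
    have hle : pc S U ⊓ T ≤ U := fun x hx => inf_pc_le hc hx.2 hx.1
    have hN : f ^ n ∈ (naive d).autGroup (pc S U) :=
      mem_naive_aut d hY.1 (pow_mem hf n) (fun x => h.le (hfn x))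
        (H85.restrict ((H85.mem_autGroup h.le).1 b.2) hle) fun x => by
          rw [← show Subgroup.inclusion le_sup_left (Subgroup.inclusion hle x) =
            (⟨x, x.2.1⟩ : pc S U) from rfl]
          exact hres _
    have hD := (H85.mem_autGroup hY.1).1 (coprime_mem_hs d hY hN hn)
    exact (H85.mem_autGroup hUS).2
      (H85.hom_congr (H85.restrict hD (le_sup_left : U ≤ pc S U)) hres)
  intro a ha
  exact (htop ▸ Subgroup.mem_top (⟨a, ha⟩ : E.autGroup U) :
    (⟨a, ha⟩ : E.autGroup U) ∈ ((prodSys d).autGroup U).subgroupOf (E.autGroup U))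

/-- `E` lies in the product wherever saturation is known above. -/
theorem E_le (d : Data p F E) {P : Subgroup Ω} {φ : P →* Ω} (hφ : φ ∈ E.Hom P)
    (hsat : SatAbove d (Nat.card P)) : φ ∈ (prodSys d).Hom P := by
  have := d.finT
  suffices H : ∀ V ≤ T, ∀ ψ ∈ E.Hom V, SatAbove d (Nat.card V) → ψ ∈ (prodSys d).Hom V from
    H P (H85.source_le hφ) φ hφ hsat
  clear hφ hsat φ P
  refine induction_within d.pT d.satE (stronglyClosed_self E)
    (fun V ψ => SatAbove d (Nat.card V) → ψ ∈ (prodSys d).Hom V) ?_ ?_ ?_ ?_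
  · intro P Q φ hPQ hQ hφ h hP
    have : Finite Q := H85.finite_of_le hQ
    exact H85.restrict (h (satAbove_mono d hP (Subgroup.card_le_of_le hPQ))) hPQ
  · intro P Q R e e' hP hQ hR he he' h h' hsat
    exact H85.IsFIso.trans (h hsat) (h' ((Nat.card_congr e.toEquiv) ▸ hsat))
  · intro P Q e hP hQ he h hsat
    exact H85.IsFIso.symm (h ((Nat.card_congr e.toEquiv).symm ▸ hsat))
  intro U hUT hn IH α hα hsat
  have hαE := (H85.mem_autGroup hUT).1 hα
  have hUS := hUT.trans d.le_base
  have hhigh : ∀ V : Subgroup Ω, V ≤ T → Nat.card U < Nat.card V →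
      E.Hom V ⊆ (prodSys d).Hom V := fun V hV hlt ψ hψ =>
    IH V hV hlt ψ hψ (satAbove_mono d hsat hlt.le)
  by_cases hc : E.IsCentric U
  · obtain ⟨U₁, hc₁, hn₁⟩ := H85.exists_fullyNormalized (prodSys d) hUS
    obtain ⟨χ, hχ, -, himg⟩ := chart_base d hUT hsat hc₁ hn₁ (H85.isConj_refl _ hUS)
    let e : U ≃* U₁ := (H85.resIso χ ((prodSys d).injective_of_mem hχ)
      (H85.le_normalizerIn hUS)).trans (MulEquiv.subgroupCongr himg)
    have he : H85.IsFIso (prodSys d) e :=
      H85.hom_congr (H85.restrict hχ (H85.le_normalizerIn hUS)) fun _ => rfl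
    have heF : H85.IsFIso F e := prodSys_sub d _ he
    have hU₁T : U₁ ≤ T := fun y hy => by
      obtain ⟨x, hx⟩ := e.surjective ⟨y, hy⟩
      have h1 := (d.mapT heF x).2 (hUT x.2)
      rwa [show (U₁.subtype.comp e.toMonoidHom) x = y from congrArg Subtype.val hx] at h1
    have hcard : Nat.card U = Nat.card U₁ := Nat.card_congr e.toEquiv
    have htop : IsTop d U₁ := ⟨hU₁T, hn₁, hcard ▸ hsat, hcard ▸ hhigh⟩
    have hα₁ := htop.autE_le (centric_of_conj d.hE.1 hc heF.isConj) (eaut_congr d hUT heF hα)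
    have h1 := (he.trans ((H85.mem_autGroup (hU₁T.trans d.le_base)).1 hα₁)).trans he.symm
    refine H85.hom_congr h1 fun x => ?_
    show ((e.symm (e (α (e.symm (e x))))) : Ω) = α x
    rw [e.symm_apply_apply, e.symm_apply_apply]
  · have hrec := H85.receptive_of_fullyNormalized d.pT d.satE hn
    set X := extender T U (U.subtype.comp α.toMonoidHom) with hXdef
    obtain ⟨ψ, hψ, hext⟩ : ∃ ψ ∈ E.Hom X, ∀ (x : Ω) (hP : x ∈ U) (hN : x ∈ X),
        ψ ⟨x, hN⟩ = (α ⟨x, hP⟩ : Ω) := H85.receptive_extend hrec hαE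
    have hUX : U ≤ X := H85.le_extender hUT fun x => H85.map_mem hαE x
    have : Finite X := H85.finite_of_le (H85.extender_le _ _)
    have hbig : Nat.card U < Nat.card X := by
      refine lt_of_le_of_ne (Subgroup.card_le_of_le hUX) fun h => hc ?_
      refine H85.centric_of_receptive hrec ?_
      exact (H85.centralizerIn_le_extender _ _).trans
        (Subgroup.eq_of_le_of_card_ge hUX h.ge).symm.le
    exact H85.hom_congr (H85.restrict (hhigh X (H85.extender_le _ _) hbig hψ) hUX)
      fun x => hext x x.2 _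

/-- A fully normalized subgroup inside `T` is top once saturation is known above. -/
theorem isTop_of (d : Data p F E) {U : Subgroup Ω} (hU : U ≤ T)
    (hn : (prodSys d).IsFullyNormalized U) (hsat : SatAbove d (Nat.card U)) : IsTop d U :=
  ⟨hU, hn, hsat, fun _ _ hlt _ hψ => E_le d hψ (satAbove_mono d hsat hlt.le)⟩

/-- Every subgroup of `S` moves, with the normalizer of its part in `T`, over a top subgroup. -/
theorem exists_top (d : Data p F E) {P : Subgroup Ω} (hP : P ≤ S)
    (hsat : SatAbove d (Nat.card ↥(P ⊓ T))) :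
    ∃ U, IsTop d U ∧ ∃ χ ∈ (prodSys d).Hom (normalizerIn S (P ⊓ T)),
      (∀ x, χ x ∈ normalizerIn S U) ∧ H85.img χ (P ⊓ T) = U := by
  have hUS : P ⊓ T ≤ S := inf_le_right.trans d.le_base
  obtain ⟨U₁, hc₁, hn₁⟩ := H85.exists_fullyNormalized (prodSys d) hUS
  obtain ⟨χ, hχ, hχN, himg⟩ := chart_base d inf_le_right hsat hc₁ hn₁ (H85.isConj_refl _ hUS)
  refine ⟨U₁, isTop_of d ?_ hn₁ ((H85.isConj_card hc₁) ▸ hsat), χ, hχ, hχN, himg⟩
  rw [← himg]
  intro y hy
  obtain ⟨x, hx, rfl⟩ := H85.mem_img.1 hy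
  exact (d.mapT (prodSys_sub d _ hχ) x).2 hx.2

theorem le_normalizerIn_inf (d : Data p F E) {P : Subgroup Ω} (hP : P ≤ S) :
    P ≤ normalizerIn S (P ⊓ T) := by
  intro g hg
  have : Finite ↥(P ⊓ T) := H85.finite_of_le (inf_le_left.trans hP)
  exact ⟨hP hg, H85.mem_normalizer_of_conj fun x hx =>
    ⟨P.mul_mem (P.mul_mem hg hx.1) (P.inv_mem hg), d.conjT (hP hg) hx.2⟩⟩

end H86.SE
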