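import Cfsg.Agent.H86.SE.Extend
import Cfsg.Agent.H86.SE.Top

/-! The admissible subgroups over a top subgroup that are fully normalized satisfy the consequences of
the kernel of the defect. -/

set_option autoImplicit false
set_option linter.unusedSectionVars false

open Cfsg Cfsg.FusionSystem

namespace H86.SE

variable {Ω : Type*} [Group Ω] {S T : Subgroup Ω} [Finite S] {p : ℕ} [Fact p.Prime]
  {F : FusionSystem S} {E : FusionSystem T}

set_option maxHeartbeats 400000 in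
/-- The bottom of the tower: `U C_S(U)` over a centric top subgroup `U`. -/
theorem good_pc (d : Data p F E) {P : Subgroup Ω} (h : IsTop d (P ⊓ T))
    (hc : E.IsCentric (P ⊓ T)) (hP : P = pc S (P ⊓ T)) : Good d P := by
  have := d.finT
  have hUS : P ⊓ T ≤ S := inf_le_right.trans d.le_base
  have : Finite ↥(P ⊓ T) := H85.finite_of_le hUS
  have hPH : P ∈ Hs d := by rw [hP]; exact h.pc_mem_hs hc
  have hPS := hPH.1
  have hL : ∀ a ∈ oGen d P ⊔ autInducedBy T P, ∀ α : MulAut ↥(P ⊓ T),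
      (∀ x : ↥(P ⊓ T), (α x : Ω) = a ⟨x, x.2.1⟩) → α ∈ E.autGroup (P ⊓ T) := by
    have hle : oGen d P ⊔ autInducedBy T P ≤
        ((E.autGroup (P ⊓ T)).comap (resTriv (inf_le_left : P ⊓ T ≤ P))).map
          (trivMod (P ⊓ T) P).subtype := by
      refine sup_le ((Subgroup.closure_le _).2 ?_) ?_
      · rintro a ⟨ha, hord⟩
        obtain ⟨α, hα, -, hαe⟩ := exists_eaut d hPS ha hord
        refine ⟨⟨a, coprime_trivMod d hPS ha hord⟩, ?_, rfl⟩
        show resTriv inf_le_left _ ∈ E.autGroup (P ⊓ T)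
        rwa [show resTriv inf_le_left ⟨a, coprime_trivMod d hPS ha hord⟩ = α from
          MulEquiv.ext fun x => Subtype.ext (hαe x)]
      · intro a ha
        refine ⟨⟨a, autT_trivMod d hPS ha⟩, ?_, rfl⟩
        obtain ⟨t, ht, hte⟩ := H85.mem_autInducedBy.1 ha
        exact H85.autInducedBy_le_autGroup E inf_le_right
          (H85.mem_autInducedBy.2 ⟨t, ht, fun x => hte ⟨x, x.2.1⟩⟩)
    intro a ha α hα
    obtain ⟨b, hb, hba⟩ := hle ha
    rwa [show α = resTriv inf_le_left b from MulEquiv.ext fun x => Subtype.ext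
      ((hα x).trans (by rw [← hba]; rfl))]
  have hidx : ¬ p ∣ (autInducedBy (normalizerIn T P) (P ⊓ T)).relIndex
      (E.autGroup (P ⊓ T)) := by
    obtain ⟨-, R, hR⟩ := H85.fullyAutomized_of_fullyNormalized d.pT d.satE h.fnE
    intro hp
    have h1 : ¬ p ∣ (autInducedBy T (P ⊓ T)).relIndex (E.autGroup (P ⊓ T)) := by
      show ¬ p ∣ ((autInducedBy T (P ⊓ T)).subgroupOf (E.autGroup (P ⊓ T))).index
      rw [← hR]
      exact R.not_dvd_index
    refine h1 (hp.trans (Subgroup.relIndex_dvd_of_le_left _ ?_))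
    intro a ha
    obtain ⟨t, ht, hte⟩ := H85.mem_autInducedBy.1 ha
    refine H85.mem_autInducedBy.2 ⟨t, ⟨ht, ?_⟩, hte⟩
    have h2 := (pc_le_normalizerIn_self (S := S) hUS
      ⟨d.le_base ht, H85.mem_normalizer_of_induced hte⟩).2
    rwa [← hP] at h2
  obtain ⟨h1, h2⟩ := kernel d hPH h.fnE _ hL hidx
  exact ⟨hPH, h.fnE, h1, h2⟩

/-- `P` is recovered from the automorphisms it induces on a normal subgroup containing its
centralizer. -/
theorem preim_induced {P Y : Subgroup Ω} (hP : P ≤ normalizerIn S Y)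
    (hC : centralizerIn S Y ≤ P) : preim S Y (autInducedBy P Y) = P := by
  refine le_antisymm (fun g hg => ?_) fun g hg => mem_preim.2
    ⟨hP hg, H85.mem_autInducedBy.2 ⟨g, hg, fun _ => rfl⟩⟩
  obtain ⟨hgN, hgR⟩ := mem_preim.1 hg
  obtain ⟨y, hy, hye⟩ := H85.mem_autInducedBy.1 hgR
  have hz : (⟨y, hP hy⟩ : normalizerIn S Y)⁻¹ * ⟨g, hgN⟩ ∈ (H85.conjAut S Y).ker := by
    rw [MonoidHom.mem_ker, map_mul, map_inv, inv_mul_eq_one]
    exact MulEquiv.ext fun x => Subtype.ext (hye x).symm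
  have h := P.mul_mem hy (hC (H85.mem_conjAut_ker.1 hz))
  rwa [show y * ((((⟨y, hP hy⟩ : normalizerIn S Y)⁻¹ * ⟨g, hgN⟩ : normalizerIn S Y)) : Ω) = g
    from mul_inv_cancel_left y g] at h

theorem mem_normalizer_preim {Y : Subgroup Ω} [Finite (preim S Y (⊤ : Subgroup (MulAut Y)))]
    {R : Subgroup (MulAut Y)} {g : Ω} (hg : g ∈ normalizerIn S Y)
    (h : H85.conjAut S Y ⟨g, hg⟩ ∈ Subgroup.normalizer (R : Set (MulAut Y))) :
    g ∈ normalizerIn S (preim S Y R) := by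
  have : Finite (preim S Y R) := Finite.of_injective
    (Subgroup.inclusion (show preim S Y R ≤ preim S Y ⊤ from fun x hx => by
      obtain ⟨h1, -⟩ := mem_preim.1 hx
      exact mem_preim.2 ⟨h1, Subgroup.mem_top _⟩)) (Subgroup.inclusion_injective _)
  refine ⟨hg.1, H85.mem_normalizer_of_conj fun x hx => ?_⟩
  obtain ⟨hxN, hxR⟩ := mem_preim.1 hx
  refine mem_preim.2 ⟨mul_mem (mul_mem hg hxN) (inv_mem hg), ?_⟩
  have h1 := (Subgroup.mem_normalizer_iff.1 h _).1 hxR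
  rwa [← map_inv, ← map_mul, ← map_mul] at h1

/-- The fully normalized extension from `Y` to `P`: the normalizer in `Aut_S(Y)` of the automorphisms
induced by `P` has index prime to `p` in the normalizer in the group at `Y`. -/
theorem index_normalizer (d : Data p F E) {Y : Subgroup Ω} (hY : Good d Y) {P : Subgroup Ω}
    (hPS : P ≤ S) (hYP : Y ≤ P) (hn : (prodSys d).IsFullyNormalized P)
    (hPN : normalizerIn S P ≤ normalizerIn S Y) :
    ¬ p ∣ (autInducedBy S Y ⊓ Subgroup.normalizer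
        ((autInducedBy P Y : Subgroup _) : Set (MulAut Y))).relIndex
      (kGen d Y ⊓ Subgroup.normalizer ((autInducedBy P Y : Subgroup _) : Set (MulAut Y))) := by
  classical
  have hYS := hY.mem.1
  have hC := hs_centralizer d hY.mem
  have : Finite Y := H85.finite_of_le hYS
  have : Finite (MulAut Y) := Finite.of_injective (fun e => (e : Y → Y)) DFunLike.coe_injective
  have : Finite (preim S Y (⊤ : Subgroup (MulAut Y))) :=
    H85.finite_of_le ((preim_le _).trans (H85.normalizerIn_le Y))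
  set Sy := autInducedBy S Y with hSy
  set R := autInducedBy P Y with hRdef
  have hPY : P ≤ normalizerIn S Y := (H85.le_normalizerIn hPS).trans hPN
  have hRS : R ≤ Sy := fun a ha => by
    obtain ⟨x, hx, hxe⟩ := H85.mem_autInducedBy.1 ha
    exact H85.mem_autInducedBy.2 ⟨x, hPS hx, hxe⟩
  have hInn : Cfsg.Inn Y ≤ R := H85.inn_le_autInducedBy hYP
  have hSyp : IsPGroup p Sy := H85.autInducedBy_isPGroup d.hS Y
  have hSK : Sy ≤ kGen d Y := le_sup_right
  obtain ⟨a, ha, haR, haB, hidx⟩ := exists_normalizer_sylow hSyp hSK hY.sylow hRS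
  set B := Sy ⊓ Subgroup.normalizer (R : Set (MulAut Y)) with hBdef
  have hRB : R ≤ B := le_inf hRS Subgroup.le_normalizer
  obtain ⟨χ, hχ, hχe⟩ := hY.ext (hInn.trans hRB) inf_le_left ha haB
  have hR' : preim S Y R = P := preim_induced hPY (hC.trans hYP)
  have hNB : normalizerIn S P ≤ preim S Y B := by
    intro g hg
    refine mem_preim.2 ⟨hPN hg, Subgroup.mem_inf.2
      ⟨H85.mem_autInducedBy.2 ⟨g, hg.1, fun _ => rfl⟩, ?_⟩⟩
    refine H85.mem_normalizer_of_conj fun r hr => ?_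
    obtain ⟨x, hx, hxe⟩ := H85.mem_autInducedBy.1 hr
    rw [show r = H85.conjAut S Y ⟨x, hPY hx⟩ from MulEquiv.ext fun y => Subtype.ext (hxe y),
      ← map_inv, ← map_mul, ← map_mul]
    exact H85.mem_autInducedBy.2
      ⟨g * x * g⁻¹, H85.conj_mem_of_mem_normalizer hg.2 hx, fun _ => rfl⟩
  have hψ := H85.restrict hχ hNB
  set ψ := χ.comp (Subgroup.inclusion hNB) with hψdef
  have hPN' := H85.le_normalizerIn (S := S) hPS
  set P' := H85.img ψ P with hP'def
  have hconj : (prodSys d).IsConj P P' := H85.isConj_img hψ hPN'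
  have hP'S := (H85.isConj_le hconj).2
  have : Finite P' := H85.finite_of_le hP'S
  have hval : ∀ g : normalizerIn S P, ∃ hg : ψ g ∈ normalizerIn S Y,
      H85.conjAut S Y ⟨ψ g, hg⟩ = a * H85.conjAut S Y ⟨g, hPN g.2⟩ * a⁻¹ := fun g =>
    ext_value d hYS (hInn.trans hRB) hχ hχe (Subgroup.inclusion hNB g)
  set R₀ := R.map (MulAut.conj a).toMonoidHom with hR₀
  have hP' : preim S Y R₀ = P' := by
    refine le_antisymm (fun z hz => ?_) fun z hz => ?_
    · obtain ⟨hzN, r, hr, hre⟩ := mem_preim.1 hz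
      obtain ⟨x, hx, hxe⟩ := H85.mem_autInducedBy.1 hr
      obtain ⟨hv, hve⟩ := hval ⟨x, hPN' hx⟩
      have h1 : H85.conjAut S Y ⟨ψ ⟨x, hPN' hx⟩, hv⟩ = H85.conjAut S Y ⟨z, hzN⟩ := by
        rw [hve, ← hre]
        show a * _ * a⁻¹ = a * r * a⁻¹
        congr 2
        exact MulEquiv.ext fun y => Subtype.ext (hxe y).symm
      have hz' : (⟨ψ ⟨x, hPN' hx⟩, hv⟩ : normalizerIn S Y)⁻¹ * ⟨z, hzN⟩ ∈
          (H85.conjAut S Y).ker := by
        rw [MonoidHom.mem_ker, map_mul, map_inv, h1, inv_mul_cancel]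
      have hw := hC (H85.mem_conjAut_ker.1 hz')
      have hwP : (ψ ⟨x, hPN' hx⟩)⁻¹ * z ∈ P' := by
        refine H85.mem_img.2 ⟨⟨(a⁻¹ ⟨_, hw⟩ : Y), hPN' (hYP (a⁻¹ ⟨_, hw⟩).2)⟩,
          hYP (a⁻¹ ⟨_, hw⟩).2, ?_⟩
        refine (hχe (a⁻¹ ⟨_, hw⟩) _).trans ?_
        rw [MulAut.apply_inv_self]
        rfl
      have h2 := P'.mul_mem (H85.apply_mem_img (φ := ψ) (x := ⟨x, hPN' hx⟩) hx) hwP
      rwa [mul_inv_cancel_left] at h2
    · obtain ⟨x, hx, rfl⟩ := H85.mem_img.1 hz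
      obtain ⟨hv, hve⟩ := hval x
      exact mem_preim.2 ⟨hv, hve ▸ ⟨_, H85.mem_autInducedBy.2 ⟨x, hx, fun _ => rfl⟩, rfl⟩⟩
  have hmaps : ∀ g : normalizerIn S P, ψ g ∈ normalizerIn S P' := fun g =>
    H85.map_normalizing hψ hPN' le_rfl g
  have hsurj : ∀ g' ∈ normalizerIn S P', ∃ g, ψ g = g' := by
    have : Finite (normalizerIn S P') := H85.finite_of_le (H85.normalizerIn_le P')
    have h1 : ψ.range = normalizerIn S P' := by
      refine Subgroup.eq_of_le_of_card_ge ?_ ?_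
      · rintro _ ⟨g, rfl⟩
        exact hmaps g
      · rw [card_range (prodSys d) hψ]
        exact hn.2 _ hconj
    exact fun g' hg' => h1.ge hg'
  set N := kGen d Y ⊓ Subgroup.normalizer (R : Set (MulAut Y)) with hN
  have hNc : N.map (MulAut.conj a).toMonoidHom =
      kGen d Y ⊓ Subgroup.normalizer (R₀ : Set (MulAut Y)) := by
    rw [hN, Subgroup.map_inf _ _ _ (MulAut.conj a).injective]
    congr 1
    · refine le_antisymm ?_ fun k hk => ⟨a⁻¹ * k * a,
        mul_mem (mul_mem (inv_mem ha) hk) ha, show a * (a⁻¹ * k * a) * a⁻¹ = k by group⟩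
      rintro _ ⟨k, hk, rfl⟩
      exact mul_mem (mul_mem ha hk) (inv_mem ha)
    · exact Subgroup.map_equiv_normalizer_eq R (MulAut.conj a)
  have hsub : Sy ⊓ Subgroup.normalizer (R₀ : Set (MulAut Y)) ≤
      B.map (MulAut.conj a).toMonoidHom := by
    intro b hb
    obtain ⟨hb1, hb2⟩ := Subgroup.mem_inf.1 hb
    rw [hSy, ← H85.conjAut_range] at hb1
    obtain ⟨⟨g', hg'Y⟩, rfl⟩ := hb1
    have hg' : g' ∈ normalizerIn S P' := hP' ▸ mem_normalizer_preim hg'Y hb2
    obtain ⟨g, rfl⟩ := hsurj g' hg'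
    obtain ⟨hv, hve⟩ := hval g
    exact ⟨_, (mem_preim.1 (hNB g.2)).choose_spec, hve.symm⟩
  intro hp
  refine hidx ?_
  rw [← hNc]
  refine hp.trans ?_
  rw [← Subgroup.relIndex_map_map_of_injective B N (f := (MulAut.conj a).toMonoidHom)
    (MulAut.conj a).injective]
  exact Subgroup.relIndex_dvd_of_le_left _ hsub

set_option maxHeartbeats 800000 in
/-- The admissible fully normalized subgroups over a top subgroup are good. -/
theorem good_of_fn (d : Data p F E) {P : Subgroup Ω} (hP : P ∈ Hs d)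
    (hn : (prodSys d).IsFullyNormalized P) (h : IsTop d (P ⊓ T)) : Good d P := by
  classical
  have := d.finT
  have hPS := hP.1
  have hc := hs_centric d hP
  have hC := hs_cent d hP
  have hUS : P ⊓ T ≤ S := inf_le_right.trans d.le_base
  have : Finite P := H85.finite_of_le hPS
  have : Finite ↥(P ⊓ T) := H85.finite_of_le hUS
  set Y := pc S (P ⊓ T) with hYdef
  have hYP : Y ≤ P := sup_le inf_le_left hC
  have hUY : P ⊓ T ≤ Y := le_sup_left
  have hYS : Y ≤ S := hYP.trans hPS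
  have : Finite Y := H85.finite_of_le hYS
  have : Finite (MulAut Y) := Finite.of_injective (fun e => (e : Y → Y)) DFunLike.coe_injective
  have hYT : Y ⊓ T = P ⊓ T :=
    le_antisymm (fun _ hx => inf_pc_le hc hx.2 hx.1) (le_inf hUY inf_le_right)
  have hY : Good d Y := good_pc d (hYT ▸ h) (hYT ▸ hc) (by rw [hYT])
  have hUN : normalizerIn S P ≤ normalizerIn S (P ⊓ T) := norm_inf d hPS
  have hPN : normalizerIn S P ≤ normalizerIn S Y := fun g hg =>
    ⟨hg.1, (pc_le_normalizerIn_self hUS (hUN hg)).2⟩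
  set R := autInducedBy P Y with hRdef
  set B := autInducedBy S Y ⊓ Subgroup.normalizer (R : Set (MulAut Y)) with hBdef
  set N := kGen d Y ⊓ Subgroup.normalizer (R : Set (MulAut Y)) with hNdef
  have hidxY : ¬ p ∣ B.relIndex N := index_normalizer d hY hPS hYP hn hPN
  -- the automorphisms of `Y` in question and their restrictions
  let ρ : trivMod (P ⊓ T) Y →* MulAut ↥(P ⊓ T) := resTriv hUY
  let Λ : Subgroup (trivMod (P ⊓ T) Y) :=
    N.comap (trivMod (P ⊓ T) Y).subtype ⊓ (E.autGroup (P ⊓ T)).comap ρ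
  have hYU : trivMod (P ⊓ T) P ≤ trivMod Y P := fun a ha x => hUY (ha x)
  let σ : trivMod (P ⊓ T) P →* trivMod (P ⊓ T) Y :=
    ((resTriv hYP).comp (Subgroup.inclusion hYU)).codRestrict _ fun a y => a.2 ⟨y, hYP y.2⟩
  have hL : ∀ a ∈ oGen d P ⊔ autInducedBy T P, ∀ α : MulAut ↥(P ⊓ T),
      (∀ x : ↥(P ⊓ T), (α x : Ω) = a ⟨x, x.2.1⟩) → α ∈ Λ.map ρ := by
    have hle : oGen d P ⊔ autInducedBy T P ≤
        (Λ.comap σ).map (trivMod (P ⊓ T) P).subtype := by
      have hR : ∀ a : trivMod (P ⊓ T) P, ((σ a : trivMod (P ⊓ T) Y) : MulAut Y) ∈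
          Subgroup.normalizer (R : Set (MulAut Y)) := by
        intro a
        refine H85.mem_normalizer_of_conj fun r hr => ?_
        obtain ⟨x, hx, hxe⟩ := H85.mem_autInducedBy.1 hr
        refine H85.mem_autInducedBy.2 ⟨(a : MulAut P) ⟨x, hx⟩, SetLike.coe_mem _, fun y => ?_⟩
        obtain ⟨z, rfl⟩ := ((σ a : trivMod (P ⊓ T) Y) : MulAut Y).surjective y
        rw [MulAut.mul_apply, MulAut.mul_apply, MulAut.inv_apply_self]
        show ((a : MulAut P) ⟨r z, hYP (r z).2⟩ : Ω) =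
          (a : MulAut P) ⟨x, hx⟩ * ((a : MulAut P) ⟨z, hYP z.2⟩ : Ω) *
            (((a : MulAut P) ⟨x, hx⟩ : Ω))⁻¹
        rw [show (⟨r z, hYP (r z).2⟩ : P) = ⟨x, hx⟩ * ⟨z, hYP z.2⟩ * ⟨x, hx⟩⁻¹ from
          Subtype.ext (hxe z), map_mul, map_mul, map_inv]
        rfl
      refine sup_le ((Subgroup.closure_le _).2 ?_) ?_
      · rintro a ⟨ha, hord⟩
        have hat := coprime_trivMod d hPS ha hord
        obtain ⟨α, hα, -, hαe⟩ := exists_eaut d hPS ha hord
        obtain ⟨b, hb, -, hbord, hbe⟩ := exists_res_trivMod hPS ha hat hUY hYP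
        have hσ : ((σ ⟨a, hat⟩ : trivMod (P ⊓ T) Y) : MulAut Y) = b :=
          MulEquiv.ext fun y => Subtype.ext (hbe y).symm
        refine ⟨⟨a, hat⟩, ⟨⟨?_, hR _⟩, ?_⟩, rfl⟩
        · show ((σ ⟨a, hat⟩ : trivMod (P ⊓ T) Y) : MulAut Y) ∈ kGen d Y
          rw [hσ]
          exact coprime_kGen d hb (Nat.Coprime.of_dvd_left hbord hord)
        · show ρ (σ ⟨a, hat⟩) ∈ E.autGroup (P ⊓ T)
          rwa [show ρ (σ ⟨a, hat⟩) = α from MulEquiv.ext fun x => Subtype.ext (hαe x)]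
      · intro a ha
        have hat := autT_trivMod d hPS ha
        obtain ⟨t, ht, hte⟩ := H85.mem_autInducedBy.1 ha
        refine ⟨⟨a, hat⟩, ⟨⟨?_, hR _⟩, ?_⟩, rfl⟩
        · exact Subgroup.mem_sup_right
            (H85.mem_autInducedBy.2 ⟨t, d.le_base ht, fun y => hte ⟨y, hYP y.2⟩⟩)
        · exact H85.autInducedBy_le_autGroup E inf_le_right
            (H85.mem_autInducedBy.2 ⟨t, ht, fun x => hte ⟨x, x.2.1⟩⟩)
    intro a ha α hα
    obtain ⟨b, hb, hba⟩ := hle ha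
    exact ⟨σ b, hb, MulEquiv.ext fun x => Subtype.ext
      (Eq.trans (by rw [← hba]; rfl) (hα x).symm)⟩
  have hnorm : B ≤ Subgroup.normalizer
      ((Λ.map (trivMod (P ⊓ T) Y).subtype : Subgroup _) : Set (MulAut Y)) := by
    intro b hb
    obtain ⟨g, hg, hge⟩ := H85.mem_autInducedBy.1 hb.1
    have hgY : g ∈ normalizerIn S Y := ⟨hg, H85.mem_normalizer_of_induced hge⟩
    have hgU : g ∈ normalizerIn S (P ⊓ T) := hYT ▸ norm_inf d hYS hgY
    have hbN : b ∈ N := ⟨Subgroup.mem_sup_right hb.1, hb.2⟩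
    refine H85.mem_normalizer_of_conj ?_
    rintro _ ⟨l, ⟨hlN, hlE⟩, rfl⟩
    have htriv : b * (l : MulAut Y) * b⁻¹ ∈ trivMod (P ⊓ T) Y := by
      intro y
      obtain ⟨z, rfl⟩ := b.surjective y
      rw [MulAut.mul_apply, MulAut.mul_apply, MulAut.inv_apply_self, hge, hge]
      rw [show (g * (z : Ω) * g⁻¹)⁻¹ * (g * ((l : MulAut Y) z : Ω) * g⁻¹) =
        g * ((z : Ω)⁻¹ * ((l : MulAut Y) z : Ω)) * g⁻¹ by group]
      exact H85.conj_mem_of_mem_normalizer hgU.2 (l.2 z)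
    refine ⟨⟨_, htriv⟩, ⟨N.mul_mem (N.mul_mem hbN hlN) (N.inv_mem hbN), ?_⟩, rfl⟩
    show ρ ⟨_, htriv⟩ ∈ E.autGroup (P ⊓ T)
    have hc' := eaut_congr d (inf_le_right) (H85.isFIso_of_mem_autInducedBy F hUS
      (H85.mem_autInducedBy.2 ⟨g, hg, fun _ => rfl⟩ : H85.conjAut S _ ⟨g, hgU⟩ ∈ _)) hlE
    rw [H85.congr_eq_conj] at hc'
    refine (?_ : ρ ⟨_, htriv⟩ = _) ▸ hc'
    refine MulEquiv.ext fun x => ?_
    obtain ⟨z, rfl⟩ := (H85.conjAut S (P ⊓ T) ⟨g, hgU⟩).surjective x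
    rw [MulAut.mul_apply, MulAut.mul_apply, MulAut.inv_apply_self]
    refine Subtype.ext ?_
    set w := H85.conjAut S (P ⊓ T) ⟨g, hgU⟩ z with hw
    have hwb : (⟨(w : Ω), hUY w.2⟩ : Y) = b ⟨z, hUY z.2⟩ := Subtype.ext (hge ⟨z, hUY z.2⟩).symm
    show ((b * (l : MulAut Y) * b⁻¹) ⟨(w : Ω), hUY w.2⟩ : Ω) =
      g * ((l : MulAut Y) ⟨z, hUY z.2⟩ : Ω) * g⁻¹
    rw [hwb, MulAut.mul_apply, MulAut.mul_apply, MulAut.inv_apply_self, hge]
  have hΛN : Λ.map (trivMod (P ⊓ T) Y).subtype ≤ N := by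
    rintro _ ⟨l, hl, rfl⟩
    exact hl.1
  have hidxΛ : ¬ p ∣ B.relIndex (Λ.map (trivMod (P ⊓ T) Y).subtype) := by
    intro hp
    rw [← relIndex_sup_normalized hnorm] at hp
    refine hidxY (hp.trans (Dvd.intro _ (Subgroup.relIndex_mul_relIndex _ _ _ le_sup_right
      (sup_le hΛN (inf_le_inf_right _ le_sup_right)))))
  have hidx : ¬ p ∣ (autInducedBy (normalizerIn T P) (P ⊓ T)).relIndex (Λ.map ρ) := by
    intro hp
    refine hidxΛ (hp.trans ?_)
    rw [← Subgroup.relIndex_comap B (trivMod (P ⊓ T) Y).subtype Λ]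
    refine dvd_trans (Subgroup.index_dvd_of_le ?_)
      (Subgroup.index_map_dvd ((B.comap (trivMod (P ⊓ T) Y).subtype).subgroupOf Λ)
        (ρ.subgroupMap_surjective Λ))
    rintro _ ⟨l, hl, rfl⟩
    show ρ l ∈ autInducedBy (normalizerIn T P) (P ⊓ T)
    obtain ⟨hlS, hlR⟩ := Subgroup.mem_inf.1 hl
    rw [← H85.conjAut_range] at hlS
    obtain ⟨⟨g, hgY⟩, hge⟩ := hlS
    have : Finite (preim S Y (⊤ : Subgroup (MulAut Y))) :=
      H85.finite_of_le ((preim_le _).trans (H85.normalizerIn_le Y))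
    have hgP : g ∈ normalizerIn S P := by
      have h1 := mem_normalizer_preim hgY (hge ▸ hlR)
      rwa [hRdef, preim_induced ((H85.le_normalizerIn hPS).trans hPN)
        ((hs_centralizer d hY.mem).trans hYP)] at h1
    have hgU := hUN hgP
    have hgE : H85.conjAut S (P ⊓ T) ⟨g, hgU⟩ = ρ l := MulEquiv.ext fun x => Subtype.ext
      (congrArg (fun c : MulAut Y => (c ⟨x, hUY x.2⟩ : Ω)) hge)
    obtain ⟨t, ht, hte⟩ := induced_in_T d h.fnE (g := ⟨g, hgU⟩) (hgE.symm ▸ l.2.2)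
    have hw : g⁻¹ * t ∈ P := hC (H85.mem_centralizerIn.2
      ⟨mul_mem (inv_mem hgP.1) (d.le_base ht), fun u hu => by
        have h1 : t * u * t⁻¹ = g * u * g⁻¹ := hte ⟨u, hu⟩
        calc u * (g⁻¹ * t) = g⁻¹ * (g * u * g⁻¹) * t := by group
          _ = g⁻¹ * t * u := by rw [← h1]; group⟩)
    have htP : t ∈ normalizerIn S P := by
      have h1 := mul_mem hgP (H85.le_normalizerIn hPS hw)
      rwa [mul_inv_cancel_left] at h1
    exact H85.mem_autInducedBy.2 ⟨t, ⟨ht, htP.2⟩, fun x => by rw [← hgE]; exact (hte x).symm⟩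
  obtain ⟨h1, h2⟩ := kernel d hP h.fnE _ hL hidx
  exact ⟨hP, h.fnE, h1, h2⟩

end H86.SE
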