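import Mathlib.GroupTheory.Index
import Mathlib.GroupTheory.Sylow

/-! Index computations for a product of a normalized subgroup. -/

set_option autoImplicit false

namespace H86.SE

variable {G : Type*} [Group G]

theorem relIndex_sup_normalized [Finite G] {A B : Subgroup G}
    (h : B ≤ Subgroup.normalizer (A : Set G)) : B.relIndex (A ⊔ B) = B.relIndex A := by
  have hn : (A.subgroupOf (A ⊔ B)).Normal :=
    (Subgroup.normal_subgroupOf_iff_le_normalizer le_sup_left).2
      (sup_le Subgroup.le_normalizer h)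
  have h1 : A.relIndex (A ⊔ B) = A.relIndex B := by
    rw [← Subgroup.relIndex_subgroupOf (le_refl (A ⊔ B)),
      ← Subgroup.relIndex_subgroupOf (H := A) (le_sup_right : B ≤ A ⊔ B),
      show (A ⊔ B).subgroupOf (A ⊔ B) = A.subgroupOf (A ⊔ B) ⊔ B.subgroupOf (A ⊔ B) from
        Subgroup.subgroupOf_sup le_sup_left le_sup_right,
      Subgroup.relIndex_sup_left]
  have hl : (A ⊓ B).relIndex A * A.relIndex (A ⊔ B) =
      (A ⊓ B).relIndex B * B.relIndex (A ⊔ B) := by
    rw [Subgroup.relIndex_mul_relIndex _ _ _ inf_le_left le_sup_left,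
      Subgroup.relIndex_mul_relIndex _ _ _ inf_le_right le_sup_right]
  rw [Subgroup.inf_relIndex_right, h1, inf_comm, Subgroup.inf_relIndex_right] at hl
  have hne : A.relIndex B ≠ 0 := by
    show (A.subgroupOf B).index ≠ 0
    exact Subgroup.index_ne_zero_of_finite
  rw [mul_comm (B.relIndex A)] at hl
  exact (Nat.eq_of_mul_eq_mul_left (Nat.pos_of_ne_zero hne) hl).symm

/-- If `N` is normal with `N ⊔ H = ⊤`, then `[N : H ⊓ N] = [G : H]`. -/
theorem relIndex_of_sup_eq_top [Finite G] {N H : Subgroup G} [N.Normal] (h : N ⊔ H = ⊤) :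
    H.relIndex N = H.index := by
  have h1 := relIndex_sup_normalized (A := N) (B := H)
    (fun g _ => by rw [Subgroup.normalizer_eq_top_iff.2 ‹N.Normal›]; trivial)
  rw [h, Subgroup.relIndex_top_right] at h1
  exact h1.symm

/-- A subgroup of index prime to `p` containing a `p`-subgroup up to conjugacy. -/
theorem exists_conj_mem_of_relIndex [Finite G] {p : ℕ} [Fact p.Prime] {Sy K R : Subgroup G}
    (hSy : IsPGroup p Sy) (hle : Sy ≤ K) (hidx : ¬ p ∣ Sy.relIndex K) (hR : R ≤ K)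
    (hRp : IsPGroup p R) : ∃ k ∈ K, ∀ x ∈ R, k * x * k⁻¹ ∈ Sy := by
  let S₁ : Sylow p K := (hSy.of_equiv (Subgroup.subgroupOfEquivOfLe hle).symm).toSylow hidx
  obtain ⟨R₁, hR₁⟩ := (hRp.of_equiv (Subgroup.subgroupOfEquivOfLe hR).symm).exists_le_sylow
  obtain ⟨g, hg⟩ := MulAction.exists_smul_eq K R₁ S₁
  refine ⟨g, g.2, fun x hx => ?_⟩
  have h1 : g * (⟨x, hR hx⟩ : K) * g⁻¹ ∈ (S₁ : Subgroup K) := by
    rw [← hg, Sylow.coe_subgroup_smul]
    exact ⟨⟨x, hR hx⟩, hR₁ hx, rfl⟩
  exact h1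

open Pointwise in
/-- Every subgroup of a Sylow subgroup is conjugate to one whose normalizer in the Sylow subgroup is a
Sylow subgroup of its normalizer, by an element also moving the old normalizer into it. -/
theorem exists_normalizer_sylow [Finite G] {p : ℕ} [Fact p.Prime] {Sy K R : Subgroup G}
    (hSy : IsPGroup p Sy) (hle : Sy ≤ K) (hidx : ¬ p ∣ Sy.relIndex K) (hR : R ≤ Sy) :
    ∃ d ∈ K, (∀ r ∈ R, d * r * d⁻¹ ∈ Sy) ∧
      (∀ b ∈ Sy ⊓ Subgroup.normalizer (R : Set G), d * b * d⁻¹ ∈ Sy) ∧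
      ¬ p ∣ (Sy ⊓ Subgroup.normalizer
          ((R.map (MulAut.conj d).toMonoidHom : Subgroup G) : Set G)).relIndex
        (K ⊓ Subgroup.normalizer
          ((R.map (MulAut.conj d).toMonoidHom : Subgroup G) : Set G)) := by
  set N := K ⊓ Subgroup.normalizer (R : Set G) with hNdef
  have hB : Sy ⊓ Subgroup.normalizer (R : Set G) ≤ N := inf_le_inf_right _ hle
  obtain ⟨Q, hQ⟩ := ((hSy.to_le inf_le_left).of_equiv
    (Subgroup.subgroupOfEquivOfLe hB).symm).exists_le_sylow
  have hBQ : Sy ⊓ Subgroup.normalizer (R : Set G) ≤ (Q : Subgroup N).map N.subtype :=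
    fun b hb => ⟨⟨b, hB hb⟩, hQ hb, rfl⟩
  obtain ⟨d, hd, hdQ⟩ := exists_conj_mem_of_relIndex hSy hle hidx
    (show (Q : Subgroup N).map N.subtype ≤ K from
      (Subgroup.map_subtype_le _).trans inf_le_left) (Q.2.map _)
  refine ⟨d, hd, fun r hr => hdQ r (hBQ ⟨hR hr, Subgroup.le_normalizer hr⟩),
    fun b hb => hdQ b (hBQ hb), fun hp => Q.not_dvd_index ?_⟩
  set c : G →* G := (MulAut.conj d).toMonoidHom with hcdef
  have hKc : K.map c = K := by
    refine le_antisymm ?_ fun k hk => ⟨d⁻¹ * k * d, K.mul_mem (K.mul_mem (K.inv_mem hd) hk) hd,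
      by show d * (d⁻¹ * k * d) * d⁻¹ = k; group⟩
    rintro _ ⟨k, hk, rfl⟩
    exact K.mul_mem (K.mul_mem hd hk) (K.inv_mem hd)
  have hNc : N.map c = K ⊓ Subgroup.normalizer ((R.map c : Subgroup G) : Set G) := by
    rw [hNdef, Subgroup.map_inf _ _ _ (MulAut.conj d).injective, hKc]
    exact congrArg (K ⊓ ·) (Subgroup.map_equiv_normalizer_eq R (MulAut.conj d))
  have hQc : ((Q : Subgroup N).map N.subtype).map c ≤
      Sy ⊓ Subgroup.normalizer ((R.map c : Subgroup G) : Set G) := by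
    rintro _ ⟨x, hx, rfl⟩
    exact ⟨hdQ x hx, (hNc.le ⟨x, Subgroup.map_subtype_le _ hx, rfl⟩).2⟩
  refine hp.trans ((Subgroup.relIndex_dvd_of_le_left _ hQc).trans ?_)
  rw [← hNc, Subgroup.relIndex_map_map_of_injective _ _ (MulAut.conj d).injective]
  rw [← Subgroup.relIndex_subgroupOf (le_refl N), Subgroup.subgroupOf_self,
    Subgroup.relIndex_top_right]
  show ((Subgroup.map N.subtype (Q : Subgroup N)).comap N.subtype).index ∣ _
  rw [Subgroup.comap_map_eq_self_of_injective N.subtype_injective]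

end H86.SE
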