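import Cfsg.Agent.H86.SE.Defect
import Cfsg.Agent.H86.SE.Index
import Cfsg.Agent.H86.CentralLift.Transfer

/-! At an admissible subgroup, the group generated by the automorphisms of order prime to `p` meets
the defect in inner automorphisms, and `Aut_S(P)` is a Sylow subgroup of what it generates with
them. -/

set_option autoImplicit false
set_option linter.unusedSectionVars false

open Cfsg Cfsg.FusionSystem

namespace H86.SE

variable {Ω : Type*} [Group Ω] {S T : Subgroup Ω} [Finite S] {p : ℕ} [Fact p.Prime]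
  {F : FusionSystem S} {E : FusionSystem T}

/-- The group generated by the automorphisms of order prime to `p` in the naive product. -/
def oGen (d : Data p F E) (P : Subgroup Ω) : Subgroup (MulAut P) :=
  Subgroup.closure {a | a ∈ (naive d).autGroup P ∧ (orderOf a).Coprime p}

theorem oGen_le_naive (d : Data p F E) (P : Subgroup Ω) : oGen d P ≤ (naive d).autGroup P :=
  (Subgroup.closure_le _).2 fun _ ha => ha.1

theorem coprime_trivMod (d : Data p F E) {P : Subgroup Ω} (hP : P ≤ S) {a : MulAut P}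
    (ha : a ∈ (naive d).autGroup P) (hord : (orderOf a).Coprime p) :
    a ∈ trivMod (P ⊓ T) P := fun x =>
  ⟨P.mul_mem (P.inv_mem x.2) (a x).2, (coprime_props d hP ha hord).1 x⟩

theorem oGen_trivMod (d : Data p F E) {P : Subgroup Ω} (hP : P ≤ S) :
    oGen d P ≤ trivMod (P ⊓ T) P :=
  (Subgroup.closure_le _).2 fun _ ha => coprime_trivMod d hP ha.1 ha.2

theorem oGen_normal (d : Data p F E) {P : Subgroup Ω} {g : MulAut P}
    (hg : g ∈ (naive d).autGroup P) {a : MulAut P} (ha : a ∈ oGen d P) :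
    g * a * g⁻¹ ∈ oGen d P := by
  have hle : oGen d P ≤ (oGen d P).comap (MulAut.conj g).toMonoidHom := by
    refine (Subgroup.closure_le _).2 fun b hb => Subgroup.subset_closure ⟨?_, ?_⟩
    · exact Subgroup.mul_mem _ (Subgroup.mul_mem _ hg hb.1) (Subgroup.inv_mem _ hg)
    · show (orderOf ((MulAut.conj g) b)).Coprime p
      rw [MulEquiv.orderOf_eq (MulAut.conj g) b]
      exact hb.2
  exact hle ha

theorem oGen_le_prodSys (d : Data p F E) {P : Subgroup Ω} (hP : P ∈ Hs d) :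
    oGen d P ≤ (prodSys d).autGroup P :=
  (Subgroup.closure_le _).2 fun _ ha => coprime_mem_hs d hP ha.1 ha.2

theorem autT_trivMod (d : Data p F E) {P : Subgroup Ω} (hP : P ≤ S) :
    autInducedBy T P ≤ trivMod (P ⊓ T) P := by
  intro a ha x
  obtain ⟨t, ht, hte⟩ := H85.mem_autInducedBy.1 ha
  refine ⟨P.mul_mem (P.inv_mem x.2) (a x).2, ?_⟩
  rw [hte]
  have h := T.mul_mem (d.conjT (S.inv_mem (hP x.2)) ht) (T.inv_mem ht)
  rwa [show (x : Ω)⁻¹ * t * (x : Ω)⁻¹⁻¹ * t⁻¹ = (x : Ω)⁻¹ * (t * x * t⁻¹) by group] at h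

theorem inducedU_conj {P U : Subgroup Ω} {g a : MulAut P} (hUP : U ≤ P)
    (hg : g ∈ trivMod U P) (ha : a ∈ autInducedBy U P) : g * a * g⁻¹ ∈ autInducedBy U P := by
  obtain ⟨u, hu, hue⟩ := H85.mem_autInducedBy.1 ha
  refine H85.mem_autInducedBy.2 ⟨g ⟨u, hUP hu⟩, trivMod_mapsTo hg le_rfl hu, fun x => ?_⟩
  obtain ⟨z, rfl⟩ := g.surjective x
  rw [MulAut.mul_apply, MulAut.mul_apply, MulAut.inv_apply_self,
    show a z = ⟨u, hUP hu⟩ * z * ⟨u, hUP hu⟩⁻¹ from Subtype.ext (hue z), map_mul, map_mul, map_inv]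
  rfl

theorem induced_fix_le {P : Subgroup Ω} (hT : T ≤ S) (hc : E.IsCentric (P ⊓ T)) {k : MulAut P}
    (hk : k ∈ autInducedBy T P) (hkf : k ∈ fixTriv (P ⊓ T) P) :
    k ∈ autInducedBy (P ⊓ T) P := by
  obtain ⟨t, ht, hte⟩ := H85.mem_autInducedBy.1 hk
  refine H85.mem_autInducedBy.2 ⟨t, inf_pc_le (S := S) hc ht (Subgroup.mem_sup_right
    (H85.mem_centralizerIn.2 ⟨hT ht, fun u hu => ?_⟩)), hte⟩
  have h1 := hte ⟨u, hu.1⟩
  rw [hkf.1 ⟨u, hu.1⟩ hu] at h1
  calc u * t = (t * u * t⁻¹) * t := by rw [← h1]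
    _ = t * u := by group

set_option maxHeartbeats 1000000 in
/-- The kernel of the defect. -/
theorem kernel (d : Data p F E) {P : Subgroup Ω} (hP : P ∈ Hs d)
    (hn : E.IsFullyNormalized (P ⊓ T)) (L : Subgroup (MulAut ↥(P ⊓ T)))
    (hL : ∀ a ∈ oGen d P ⊔ autInducedBy T P, ∀ α : MulAut ↥(P ⊓ T),
      (∀ x : ↥(P ⊓ T), (α x : Ω) = a ⟨x, x.2.1⟩) → α ∈ L)
    (hidx : ¬ p ∣ (autInducedBy (normalizerIn T P) (P ⊓ T)).relIndex L) :
    (∀ k ∈ oGen d P, k ∈ fixTriv (P ⊓ T) P → k ∈ autInducedBy (P ⊓ T) P) ∧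
      ¬ p ∣ (autInducedBy S P).relIndex (oGen d P ⊔ autInducedBy S P) := by
  classical
  have := d.finT
  have hPS := hP.1
  have hc := hs_centric d hP
  have hTS := d.le_base
  have : Finite P := H85.finite_of_le hPS
  have hUS : P ⊓ T ≤ S := inf_le_left.trans hPS
  have : Finite ↥(P ⊓ T) := H85.finite_of_le hUS
  have : Finite (MulAut P) := Finite.of_injective (fun e => (e : P → P)) DFunLike.coe_injective
  have : Finite (MulAut ↥(P ⊓ T)) :=
    Finite.of_injective (fun e => (e : ↥(P ⊓ T) → ↥(P ⊓ T))) DFunLike.coe_injective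
  have hPn : P ≤ Subgroup.normalizer ((P ⊓ T : Subgroup Ω) : Set Ω) := fun x hx =>
    (norm_inf d hPS (H85.le_normalizerIn hPS hx)).2
  have hTTl : autInducedBy T P ≤ autInducedBy S P := fun a ha => by
    obtain ⟨t, ht, hte⟩ := H85.mem_autInducedBy.1 ha
    exact H85.mem_autInducedBy.2 ⟨t, hTS ht, hte⟩
  have hUT : autInducedBy (P ⊓ T) P ≤ autInducedBy T P := fun a ha => by
    obtain ⟨t, ht, hte⟩ := H85.mem_autInducedBy.1 ha
    exact H85.mem_autInducedBy.2 ⟨t, ht.2, hte⟩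
  have hOF : oGen d P ≤ F.autGroup P :=
    (oGen_le_naive d P).trans (H85.autGroup_mono (naive_sub d) P)
  have hTF : autInducedBy T P ≤ F.autGroup P :=
    hTTl.trans (H85.autInducedBy_le_autGroup F hPS)
  set K₀ : Subgroup (MulAut P) := F.autGroup P ⊓ fixTriv (P ⊓ T) P with hK₀def
  set G : Subgroup (MulAut P) := oGen d P ⊔ autInducedBy T P ⊔ K₀ with hGdef
  have hGF : G ≤ F.autGroup P := sup_le (sup_le hOF hTF) inf_le_left
  have hGU : G ≤ trivMod (P ⊓ T) P :=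
    sup_le (sup_le (oGen_trivMod d hPS) (autT_trivMod d hPS)) fun k hk => hk.2.2
  have hKconj : ∀ g ∈ G, ∀ k ∈ K₀, g * k * g⁻¹ ∈ K₀ := fun g hg k hk =>
    ⟨(F.autGroup P).mul_mem ((F.autGroup P).mul_mem (hGF hg) hk.1)
      ((F.autGroup P).inv_mem (hGF hg)),
      fixTriv_conj (fun x hx => trivMod_mapsTo (hGU hg) le_rfl hx)
        (fun x hx => trivMod_mapsTo ((trivMod (P ⊓ T) P).inv_mem (hGU hg)) le_rfl hx) hk.2⟩
  have hK₀p : IsPGroup p K₀ := fun k => by
    obtain ⟨j, hj⟩ := fixTriv_pow d.hS hPS k.2.2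
    exact ⟨j, Subtype.ext hj⟩
  let Z : Subgroup (MulAut P) :=
    { carrier := {g | g ∈ G ∧ ∀ k ∈ K₀, g * k * g⁻¹ * k⁻¹ ∈ autInducedBy (P ⊓ T) P}
      one_mem' := ⟨G.one_mem, fun k _ => by simp⟩
      mul_mem' := by
        rintro g₁ g₂ ⟨hg₁, h₁⟩ ⟨hg₂, h₂⟩
        refine ⟨G.mul_mem hg₁ hg₂, fun k hk => ?_⟩
        rw [show g₁ * g₂ * k * (g₁ * g₂)⁻¹ * k⁻¹ =
          g₁ * (g₂ * k * g₂⁻¹ * k⁻¹) * g₁⁻¹ * (g₁ * k * g₁⁻¹ * k⁻¹) by group]
        exact Subgroup.mul_mem _ (inducedU_conj inf_le_left (hGU hg₁) (h₂ k hk)) (h₁ k hk)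
      inv_mem' := by
        rintro g ⟨hg, h⟩
        refine ⟨G.inv_mem hg, fun k hk => ?_⟩
        have hk' := hKconj g⁻¹ (G.inv_mem hg) k hk
        have h1 := Subgroup.inv_mem _ (h _ hk')
        rwa [show (g * (g⁻¹ * k * g⁻¹⁻¹) * g⁻¹ * (g⁻¹ * k * g⁻¹⁻¹)⁻¹)⁻¹ =
          g⁻¹ * k * g⁻¹⁻¹ * k⁻¹ by group] at h1 }
  have hGZ : G ≤ Z := by
    refine sup_le (sup_le ((Subgroup.closure_le _).2 ?_) ?_) ?_
    · exact fun a ha => ⟨Subgroup.mem_sup_left (Subgroup.mem_sup_left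
        (Subgroup.subset_closure ha)), fun k hk => cent_coprime d hP hn ha.1 ha.2 hk.1 hk.2⟩
    · exact fun a ha => ⟨Subgroup.mem_sup_left (Subgroup.mem_sup_right ha),
        fun k hk => cent_T d hP ha hk.1 hk.2⟩
    · refine fun a ha => ⟨Subgroup.mem_sup_right ha, fun k hk => ?_⟩
      rw [fixTriv_comm hPn inf_le_left ha.2 hk.2, mul_inv_cancel_right, mul_inv_cancel]
      exact Subgroup.one_mem _
  -- the restriction to `P ⊓ T`
  let ρ : G →* MulAut ↥(P ⊓ T) :=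
    (resTriv (inf_le_left : P ⊓ T ≤ P)).comp (Subgroup.inclusion hGU)
  have hρ : ∀ (g : G) (x : ↥(P ⊓ T)), (ρ g x : Ω) = ((g : MulAut P) ⟨x, x.2.1⟩ : Ω) :=
    fun _ _ => rfl
  set K : Subgroup G := K₀.subgroupOf G with hKdef
  set T₀ : Subgroup G := (autInducedBy T P).subgroupOf G with hT₀def
  have hker : ρ.ker = K := by
    ext g
    rw [MonoidHom.mem_ker]
    constructor
    · intro h
      refine ⟨hGF g.2, fun x hx => Subtype.ext ?_, hGU g.2⟩
      have h1 := hρ g ⟨x, hx⟩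
      rw [h] at h1
      exact h1.symm
    · exact fun h => MulEquiv.ext fun x =>
        Subtype.ext ((hρ g x).trans (congrArg Subtype.val (h.2.1 ⟨x, x.2.1⟩ x.2)))
  have hKn : K.Normal := ⟨fun k hk g => hKconj g g.2 k hk⟩
  have hK : IsPGroup p K := hK₀p.comap_of_injective G.subtype G.subtype_injective
  have hT : IsPGroup p T₀ :=
    (H85.autInducedBy_isPGroup d.pT P).comap_of_injective G.subtype G.subtype_injective
  have hρT : ∀ t ∈ autInducedBy (normalizerIn T P) (P ⊓ T), ∃ g ∈ T₀, ρ g = t := by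
    intro a ha
    obtain ⟨t, ht, hte⟩ := H85.mem_autInducedBy.1 ha
    have hm : H85.conjAut S P ⟨t, hTS ht.1, ht.2⟩ ∈ autInducedBy T P :=
      H85.mem_autInducedBy.2 ⟨t, ht.1, fun _ => rfl⟩
    refine ⟨⟨_, Subgroup.mem_sup_left (Subgroup.mem_sup_right hm)⟩, hm,
      MulEquiv.ext fun x => Subtype.ext ?_⟩
    rw [hρ, hte]
    rfl
  have hρL : ∀ g : G, ρ g ∈ L := by
    intro g
    obtain ⟨a, ha, k, hk, hak⟩ : ∃ a ∈ oGen d P ⊔ autInducedBy T P, ∃ k ∈ K₀,
        a * k = (g : MulAut P) := by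
      have hle : oGen d P ⊔ autInducedBy T P ≤ G := le_sup_left
      have hKle : K₀ ≤ G := le_sup_right
      have h1 : (g : G) ∈ (oGen d P ⊔ autInducedBy T P).subgroupOf G ⊔ K := by
        rw [hKdef, ← Subgroup.subgroupOf_sup hle hKle, Subgroup.mem_subgroupOf]
        exact g.2
      obtain ⟨a, ha, k, hk, h⟩ := Subgroup.mem_sup_of_normal_right.1 h1
      exact ⟨a, ha, k, hk, congrArg Subtype.val h⟩
    refine hL a ha _ fun x => ?_
    rw [hρ, ← hak, MulAut.mul_apply, hk.2.1 ⟨x, x.2.1⟩ x.2]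
  have hcent : ∀ g : G, ∀ k ∈ K, g * k * g⁻¹ * k⁻¹ ∈ T₀ :=
    fun g k hk => hUT ((hGZ g.2).2 k hk)
  have hstab : ∀ g : G, ∀ t ∈ T₀, g * t * g⁻¹ ∈ K ⊔ T₀ → g * t * g⁻¹ ∈ T₀ := by
    intro g t ht h
    obtain ⟨k, hk, t', ht', he⟩ := Subgroup.mem_sup_of_normal_left.1 h
    rw [← he]
    exact T₀.mul_mem (hUT (stab_T d hP (hGF g.2) (hGU g.2) hk.1 hk.2 ht ht'
      (congrArg Subtype.val he).symm)) ht'
  have hidx' : ¬ p ∣ (K ⊔ T₀).index := by
    intro hp
    refine hidx (hp.trans ?_)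
    let ρ' : G →* L := ρ.codRestrict L hρL
    have hk' : ρ'.ker = K := by rw [MonoidHom.ker_codRestrict, hker]
    have hle : (autInducedBy (normalizerIn T P) (P ⊓ T)).subgroupOf L ≤ (K ⊔ T₀).map ρ' := by
      intro a ha
      obtain ⟨g, hg, hga⟩ := hρT a ha
      exact ⟨g, Subgroup.mem_sup_right hg, Subtype.ext hga⟩
    refine dvd_trans ?_ (Subgroup.index_dvd_of_le hle)
    rw [Subgroup.index_map, hk', show K ⊔ T₀ ⊔ K = K ⊔ T₀ from sup_eq_left.2 le_sup_left]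
    exact dvd_mul_right _ _
  obtain ⟨C, hCn, hCK, hCT, hpow⟩ := CLift.exists_kernel K T₀ hK hT
    (fun a ha b hb => Subtype.ext (fixTriv_comm hPn inf_le_left ha.2 hb.2)) hcent hstab hidx'
  have hOC : ∀ a ∈ oGen d P, ∀ ha : a ∈ G, (⟨a, ha⟩ : G) ∈ C := by
    have hle : oGen d P ≤ C.map G.subtype := by
      refine (Subgroup.closure_le _).2 fun a ha => ?_
      have haG : a ∈ G := Subgroup.mem_sup_left (Subgroup.mem_sup_left (Subgroup.subset_closure ha))
      refine ⟨⟨a, haG⟩, ?_, rfl⟩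
      obtain ⟨j, hj⟩ := hpow ⟨a, haG⟩
      obtain ⟨i, hi⟩ := exists_pow_eq_self_of_coprime
        (show Nat.Coprime (p ^ j) (orderOf (⟨a, haG⟩ : G)) from by
          rw [← Subgroup.orderOf_coe]; exact Nat.Coprime.pow_left j ha.2.symm)
      rw [← hi]
      exact C.pow_mem hj i
    intro a ha haG
    obtain ⟨b, hb, hba⟩ := hle ha
    exact (Subtype.ext hba : b = ⟨a, haG⟩) ▸ hb
  have hOG : oGen d P ≤ G := le_sup_left.trans le_sup_left
  refine ⟨fun k hk hkf => induced_fix_le hTS hc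
    (hCK ⟨k, hOG hk⟩ ⟨hOF hk, hkf⟩ (hOC k hk _)) hkf, ?_⟩
  -- the Sylow property
  have hsup : C ⊔ (K ⊔ T₀) = ⊤ := by
    have : (C ⊔ (K ⊔ T₀)).index = 1 := by
      refine Nat.eq_one_of_dvd_coprimes ?_
        (Subgroup.index_dvd_of_le le_sup_left) (Subgroup.index_dvd_of_le le_sup_right)
      have hq : IsPGroup p (G ⧸ C) := fun x => by
        obtain ⟨g, rfl⟩ := QuotientGroup.mk'_surjective C x
        obtain ⟨j, hj⟩ := hpow g
        exact ⟨j, by rwa [← map_pow, QuotientGroup.mk'_apply, QuotientGroup.eq_one_iff]⟩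
      obtain ⟨m, hm⟩ := IsPGroup.iff_card.1 hq
      rw [Subgroup.index_eq_card C, hm]
      exact Nat.Coprime.pow_left m ((Nat.Prime.coprime_iff_not_dvd Fact.out).2 hidx')
    exact Subgroup.index_eq_one.1 this
  have hT₀C : T₀ = (K ⊔ T₀) ⊓ C := by
    refine le_antisymm (le_inf le_sup_right hCT) ?_
    rintro x ⟨hx, hxC⟩
    obtain ⟨k, hk, t, ht, rfl⟩ := Subgroup.mem_sup_of_normal_left.1 hx
    have hkC : k ∈ C := by
      have h := C.mul_mem hxC (C.inv_mem (hCT ht))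
      rwa [mul_inv_cancel_right] at h
    exact T₀.mul_mem (hCK k hk hkC) ht
  have h1 : ¬ p ∣ T₀.relIndex C := by
    rw [hT₀C, Subgroup.inf_relIndex_right, relIndex_of_sup_eq_top hsup]
    exact hidx'
  intro hp
  refine h1 (hp.trans ?_)
  have hSN : autInducedBy S P ≤ Subgroup.normalizer ((oGen d P : Subgroup _) : Set (MulAut P)) := by
    intro g hg
    have hgN : g ∈ (naive d).autGroup P := H85.autInducedBy_le_autGroup _ hPS hg
    refine Subgroup.mem_normalizer_iff.2 fun a => ⟨fun ha => oGen_normal d hgN ha, fun ha => ?_⟩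
    have h := oGen_normal d (Subgroup.inv_mem _ hgN) ha
    rwa [show g⁻¹ * (g * a * g⁻¹) * g⁻¹⁻¹ = a by group] at h
  rw [relIndex_sup_normalized hSN]
  refine (Subgroup.relIndex_dvd_of_le_left _ hTTl).trans ?_
  have hTN : autInducedBy T P ≤ Subgroup.normalizer ((oGen d P : Subgroup _) : Set (MulAut P)) :=
    hTTl.trans hSN
  rw [← relIndex_sup_normalized hTN, ← Subgroup.relIndex_subgroupOf (L := G) le_sup_left]
  refine Dvd.intro _ (Subgroup.relIndex_mul_relIndex _ _ _ ?_ ?_)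
  · exact fun g hg => Subgroup.mem_sup_right hg
  · rw [Subgroup.subgroupOf_sup hOG (le_sup_right.trans le_sup_left)]
    exact sup_le (fun g hg => hOC g hg g.2) hCT

end H86.SE
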