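import Cfsg.Agent.H86.SE.Core

/-! Lifts of automorphisms of `E` of order prime to `p` to overgroups in the normalizer. -/

set_option autoImplicit false
set_option linter.unusedSectionVars false

open Cfsg Cfsg.FusionSystem

namespace H86.SE

variable {Ω : Type*} [Group Ω] {S T : Subgroup Ω} [Finite S] {p : ℕ} [Fact p.Prime]
  {F : FusionSystem S} {E : FusionSystem T}

/-- At a fully normalized subgroup the automorphisms in `E` induced from `S` are induced from `T`. -/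
theorem induced_in_T (d : Data p F E) {U : Subgroup Ω} (hn : E.IsFullyNormalized U)
    {g : normalizerIn S U} (hg : H85.conjAut S U g ∈ E.autGroup U) :
    ∃ t ∈ T, ∀ x : U, t * (x : Ω) * t⁻¹ = g * (x : Ω) * (g : Ω)⁻¹ := by
  have := d.finT
  obtain ⟨-, hmax⟩ := (H85.isFullyAutomized_iff d.pT).1
    (H85.fullyAutomized_of_fullyNormalized d.pT d.satE hn)
  have hle : autInducedBy T U ≤ E.autGroup U ⊓ autInducedBy S U := fun a ha => by
    obtain ⟨t, ht, hte⟩ := H85.mem_autInducedBy.1 ha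
    exact ⟨H85.autInducedBy_le_autGroup E hn.1 ha,
      H85.mem_autInducedBy.2 ⟨t, d.le_base ht, hte⟩⟩
  have heq := hmax _ inf_le_left ((H85.autInducedBy_isPGroup d.hS U).to_le inf_le_right) hle
  have h : H85.conjAut S U g ∈ E.autGroup U ⊓ autInducedBy S U :=
    ⟨hg, H85.conjAut_range S U ▸ ⟨g, rfl⟩⟩
  rw [heq] at h
  obtain ⟨t, ht, hte⟩ := H85.mem_autInducedBy.1 h
  exact ⟨t, ht, fun x => (hte x).symm⟩

/-- The condition on `M` of the extension lemma, at a subgroup fully normalized in `E`. -/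
theorem exists_part_T (d : Data p F E) {U M : Subgroup Ω} (hn : E.IsFullyNormalized U)
    (hM : M ≤ normalizerIn S U) (hC : centralizerIn S U ≤ M) (m : normalizerIn S U)
    (hm : (m : Ω) ∈ M) (hE : H85.conjAut S U m ∈ E.autGroup U) :
    ∃ v ∈ M ⊓ T, ∀ x : U, v * (x : Ω) * v⁻¹ = m * (x : Ω) * (m : Ω)⁻¹ := by
  obtain ⟨t, ht, hte⟩ := induced_in_T d hn hE
  have hw : t⁻¹ * (m : Ω) ∈ centralizerIn S U := by
    refine H85.mem_centralizerIn.2
      ⟨S.mul_mem (S.inv_mem (d.le_base ht)) m.2.1, fun u hu => ?_⟩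
    have h1 : t * u * t⁻¹ = m * u * (m : Ω)⁻¹ := hte ⟨u, hu⟩
    calc u * (t⁻¹ * m) = t⁻¹ * (t * u * t⁻¹) * m := by group
      _ = t⁻¹ * m * u := by rw [h1]; group
  have h1 := M.mul_mem hm (M.inv_mem (hC hw))
  rw [show (m : Ω) * (t⁻¹ * m)⁻¹ = t by group] at h1
  exact ⟨t, ⟨h1, ht⟩, hte⟩

/-- An element of the naive product normalized by `E`: `E`-automorphisms form a normal subgroup. -/
theorem pow_mul_mem {G : Type*} [Group G] (A : Subgroup G) {ε δ : G} (hε : ε ∈ A)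
    (hn : ∀ a ∈ A, δ * a * δ⁻¹ ∈ A) : ∀ i : ℕ, (ε * δ) ^ i * (δ ^ i)⁻¹ ∈ A := by
  intro i
  induction i with
  | zero => simp
  | succ i ih =>
    have h := A.mul_mem hε (hn _ ih)
    rwa [show (ε * δ) ^ (i + 1) * (δ ^ (i + 1))⁻¹ =
      ε * (δ * ((ε * δ) ^ i * (δ ^ i)⁻¹) * δ⁻¹) by rw [pow_succ', pow_succ']; group]

set_option maxHeartbeats 800000 in
/-- The restriction to `M ⊓ T` of a lift lies in `E`. -/
theorem res_mem_E (d : Data p F E) {U M : Subgroup Ω} (hn : E.IsFullyNormalized U)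
    (hc : E.IsCentric U) (hM : M ≤ normalizerIn S U) (hUM : U ≤ M)
    (hC : centralizerIn S U ≤ M) {α : MulAut U} (hα : α ∈ E.autGroup U)
    {β : MulAut ↥(M ⊓ T : Subgroup Ω)} (hβ : β ∈ F.autGroup (M ⊓ T : Subgroup Ω)) (hord : (orderOf β).Coprime p)
    (hres : ∀ (x : U) (hx : (x : Ω) ∈ M ⊓ T), (β ⟨x, hx⟩ : Ω) = α x) :
    β ∈ E.autGroup (M ⊓ T : Subgroup Ω) := by
  have := d.finT
  have hVT : (M ⊓ T : Subgroup Ω) ≤ T := inf_le_right
  have hVS : (M ⊓ T : Subgroup Ω) ≤ S := hVT.trans d.le_base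
  have hUV : U ≤ (M ⊓ T : Subgroup Ω) := le_inf hUM hc.1
  have : Finite (M ⊓ T : Subgroup Ω) := H85.finite_of_le hVT
  have hVN : (M ⊓ T : Subgroup Ω) ≤ normalizerIn S U := inf_le_left.trans hM
  have hαE := (H85.mem_autGroup hc.1).1 hα
  have hrec := H85.receptive_of_fullyNormalized d.pT d.satE hn
  obtain ⟨ψ, hψ, hψe⟩ : ∃ ψ ∈ E.Hom (extender T U (U.subtype.comp α.toMonoidHom)),
      ∀ (x : Ω) (hP : x ∈ U) (hN : x ∈ extender T U (U.subtype.comp α.toMonoidHom)),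
        ψ ⟨x, hN⟩ = (α ⟨x, hP⟩ : Ω) := H85.receptive_extend hrec hαE
  have hβU : ∀ x : U, (β (Subgroup.inclusion hUV x) : Ω) = α x := fun x => hres x _
  -- conjugation by `β v` on `U`
  have hact : ∀ (v : (M ⊓ T : Subgroup Ω)) (x : U) (hx : (v : Ω) * (x : Ω) * (v : Ω)⁻¹ ∈ U),
      (α ⟨_, hx⟩ : Ω) = (β v : Ω) * (α x : Ω) * (β v : Ω)⁻¹ := by
    intro v x hx
    rw [← hβU, ← hβU]
    rw [show Subgroup.inclusion hUV ⟨_, hx⟩ = v * Subgroup.inclusion hUV x * v⁻¹ from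
      Subtype.ext rfl, map_mul, map_mul, map_inv]
    rfl
  have hXe : (M ⊓ T : Subgroup Ω) ≤ extender T U (U.subtype.comp α.toMonoidHom) := by
    intro v hv
    exact H85.mem_extender.2 ⟨hVT hv, (hVN hv).2, (β ⟨v, hv⟩ : Ω), hVT (β ⟨v, hv⟩).2,
      fun x hx => hact ⟨v, hv⟩ x hx⟩
  have hψV : ∀ v : (M ⊓ T : Subgroup Ω), ψ (Subgroup.inclusion hXe v) ∈ (M ⊓ T : Subgroup Ω) := by
    intro v
    set z := ψ (Subgroup.inclusion hXe v) with hz
    have hzT : z ∈ T := (E.le_of_mem hψ).2 _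
    have hw : (β v : Ω)⁻¹ * z ∈ centralizerIn S U := by
      refine H85.mem_centralizerIn.2 ⟨S.mul_mem (S.inv_mem (hVS (β v).2)) (d.le_base hzT),
        fun u hu => ?_⟩
      obtain ⟨x, hx⟩ := α.surjective ⟨u, hu⟩
      have hxv : (v : Ω) * (x : Ω) * (v : Ω)⁻¹ ∈ U :=
        H85.conj_mem_of_mem_normalizer (hVN v.2).2 x.2
      have h1 := hact v x hxv
      have h2 := H85.extend_conj (e := (α : U ≃* U)) (hUV.trans hXe)
        (fun y => hψe y y.2 _) (g := Subgroup.inclusion hXe v) (x := x) hxv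
      rw [show (α x : Ω) = u from congrArg Subtype.val hx] at h1 h2
      have h3 : (β v : Ω) * u * (β v : Ω)⁻¹ = z * u * z⁻¹ := h1.symm.trans h2
      calc u * ((β v : Ω)⁻¹ * z) = (β v : Ω)⁻¹ * ((β v : Ω) * u * (β v : Ω)⁻¹) * z := by group
        _ = (β v : Ω)⁻¹ * z * u := by rw [h3]; group
    have hwU : (β v : Ω)⁻¹ * z ∈ U :=
      inf_pc_le hc (T.mul_mem (T.inv_mem (hVT (β v).2)) hzT) (Subgroup.mem_sup_right hw)
    have h4 := (M ⊓ T : Subgroup Ω).mul_mem (β v).2 (hUV hwU)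
    rwa [mul_inv_cancel_left] at h4
  have hψr := H85.restrict hψ hXe
  have hr : (ψ.comp (Subgroup.inclusion hXe)).range = (M ⊓ T : Subgroup Ω) :=
    range_eq_self_of_le E hψr (by rintro _ ⟨v, rfl⟩; exact hψV v)
  set ε : MulAut (M ⊓ T : Subgroup Ω) := autOfHom _ (E.injective_of_mem hψr) hr with hεdef
  have hε : ε ∈ E.autGroup (M ⊓ T : Subgroup Ω) := autOfHom_mem E hψr hr
  have hεU : ∀ x : U, (ε (Subgroup.inclusion hUV x) : Ω) = α x := fun x => hψe x x.2 _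
  set δ : MulAut (M ⊓ T : Subgroup Ω) := ε⁻¹ * β with hδdef
  have hεF : ε ∈ F.autGroup (M ⊓ T : Subgroup Ω) :=
    (H85.mem_autGroup hVS).2 (d.subE _ ((H85.mem_autGroup hVT).1 hε))
  have hδF : δ ∈ F.autGroup (M ⊓ T : Subgroup Ω) := (F.autGroup (M ⊓ T : Subgroup Ω)).mul_mem ((F.autGroup (M ⊓ T : Subgroup Ω)).inv_mem hεF) hβ
  have hδU : ∀ x : (M ⊓ T : Subgroup Ω), (x : Ω) ∈ U → δ x = x := by
    intro x hx
    show ε⁻¹ (β x) = x
    refine ε.injective ?_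
    rw [MulAut.apply_inv_self]
    exact Subtype.ext ((hβU ⟨x, hx⟩).trans (hεU ⟨x, hx⟩).symm)
  have hδt : δ ∈ trivMod U (M ⊓ T : Subgroup Ω) := by
    intro v
    refine inf_pc_le (S := S) hc (T.mul_mem (T.inv_mem (hVT v.2)) (hVT (δ v).2))
      (Subgroup.mem_sup_right (H85.mem_centralizerIn.2
        ⟨S.mul_mem (S.inv_mem (hVS v.2)) (hVS (δ v).2), fun u hu => ?_⟩))
    have hvu : (v : Ω) * u * (v : Ω)⁻¹ ∈ U := H85.conj_mem_of_mem_normalizer (hVN v.2).2 hu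
    have h1 : δ (v * ⟨u, hUV hu⟩ * v⁻¹) = v * ⟨u, hUV hu⟩ * v⁻¹ := hδU _ hvu
    rw [map_mul, map_mul, map_inv, hδU ⟨u, hUV hu⟩ hu] at h1
    have h2 : (δ v : Ω) * u * (δ v : Ω)⁻¹ = (v : Ω) * u * (v : Ω)⁻¹ :=
      congrArg Subtype.val h1
    calc u * ((v : Ω)⁻¹ * (δ v : Ω)) = (v : Ω)⁻¹ * ((v : Ω) * u * (v : Ω)⁻¹) * (δ v : Ω) := by group
      _ = (v : Ω)⁻¹ * (δ v : Ω) * u := by rw [← h2]; group
  obtain ⟨j, hj⟩ := pow_eq_one_trivMod (p := p) (d.pT.to_le hVT) hδt hδU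
  have hn' : ∀ a ∈ E.autGroup (M ⊓ T : Subgroup Ω), δ * a * δ⁻¹ ∈ E.autGroup (M ⊓ T : Subgroup Ω) := fun a ha => by
    rw [← H85.congr_eq_conj]
    exact eaut_congr d hVT ((H85.mem_autGroup hVS).1 hδF) ha
  have h1 := pow_mul_mem (E.autGroup (M ⊓ T : Subgroup Ω)) hε hn' (p ^ j)
  rw [hj, inv_one, mul_one, show ε * δ = β by rw [hδdef, mul_inv_cancel_left]] at h1
  obtain ⟨i, hi⟩ := exists_pow_eq_self_of_coprime
    (show Nat.Coprime (p ^ j) (orderOf β) from Nat.Coprime.pow_left j hord.symm)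
  rw [← hi]
  exact (E.autGroup (M ⊓ T : Subgroup Ω)).pow_mem h1 i

set_option maxHeartbeats 1000000 in
/-- Lifts to `M` in the naive product. -/
theorem exists_lift (d : Data p F E) {U M : Subgroup Ω} (hn : E.IsFullyNormalized U)
    (hc : E.IsCentric U) (hM : M ≤ normalizerIn S U) (hUM : U ≤ M)
    (hC : centralizerIn S U ≤ M) {α : MulAut U} (hα : α ∈ E.autGroup U)
    (hord : (orderOf α).Coprime p)
    (hnorm : ∀ m ∈ M, ∃ m' ∈ M, ∀ x : U, ∀ hx : m * ((α⁻¹ x : U) : Ω) * m⁻¹ ∈ U,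
      (α ⟨_, hx⟩ : Ω) = m' * (x : Ω) * m'⁻¹) :
    ∃ a ∈ (naive d).autGroup M, (orderOf a).Coprime p ∧ a ∈ trivMod (M ⊓ T) M ∧
      (∀ x : U, (a (Subgroup.inclusion hUM x) : Ω) = α x) ∧
      ∀ c : M, (c : Ω) ∈ centralizerIn S U → (c : Ω)⁻¹ * a c ∈ U := by
  have := d.finT
  have hUT := hc.1
  have hUS : U ≤ S := hUT.trans d.le_base
  have hMS : M ≤ S := hM.trans (H85.normalizerIn_le U)
  have : Finite U := H85.finite_of_le hUS
  have : Finite M := H85.finite_of_le hMS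
  obtain ⟨U', hUU', hU'⟩ := H85.exists_fullyNormalized F hUS
  obtain ⟨χ, hχ, hχN, himg⟩ := H85.exists_map_to_fullyNormalized d.hS d.satF hU' hUU'
  have hUN := H85.le_normalizerIn hUS
  let e : U ≃* U' := (H85.resIso χ (F.injective_of_mem hχ) hUN).trans
    (MulEquiv.subgroupCongr himg)
  have he : H85.IsFIso F e := H85.hom_congr (H85.restrict hχ hUN) fun _ => rfl
  set M' := H85.img χ M with hM'def
  let eM : M ≃* M' := H85.resIso χ (F.injective_of_mem hχ) hM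
  have heM : H85.IsFIso F eM := H85.isFIso_resIso hχ hM
  have hM'N : M' ≤ normalizerIn S U' := by
    intro y hy
    obtain ⟨x, -, rfl⟩ := H85.mem_img.1 hy
    exact hχN x
  have hU'M : U' ≤ M' := himg.ge.trans (H85.img_mono χ hUM)
  have hc' : E.IsCentric U' := centric_of_conj d.hE.1 hc hUU'
  have hctrans : ∀ (g : normalizerIn S U) (hg : χ g ∈ normalizerIn S U'),
      H85.conjAut S U' ⟨χ g, hg⟩ = MulAut.congr e (H85.conjAut S U g) := fun g hg =>
    H85.conjAut_map hUN (fun _ => rfl) g g.2 hg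
  have hmm : ∀ (m : M), χ (Subgroup.inclusion hM m) ∈ M' := fun m => H85.apply_mem_img m.2
  obtain ⟨f, hf, hford, hft, hfU, hfC⟩ := exists_core d hU' hc' hM'N hU'M (fun m' hm' hE => by
      obtain ⟨m, hm, hmm'⟩ := H85.mem_img.1 hm'
      have h1 : H85.conjAut S U m ∈ E.autGroup U := by
        have h2 := eaut_congr d hc'.1 he.symm hE
        rw [show m' = (⟨χ m, hχN m⟩ : normalizerIn S U') from Subtype.ext hmm'.symm,
          hctrans m (hχN m)] at h2
        rwa [show MulAut.congr e.symm (MulAut.congr e (H85.conjAut S U m)) = H85.conjAut S U m from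
          MulEquiv.ext fun x => by simp [MulAut.congr]] at h2
      obtain ⟨v, hv, hve⟩ := exists_part_T d hn hM hC m hm h1
      refine ⟨χ ⟨v, hM hv.1⟩, ⟨H85.apply_mem_img hv.1, (d.mapT hχ _).2 hv.2⟩, fun y => ?_⟩
      obtain ⟨x, rfl⟩ := e.surjective y
      rw [← hmm']
      have hL : ∀ g : normalizerIn S U, χ g * (e x : Ω) * (χ g)⁻¹ =
          χ ⟨(g : Ω) * x * (g : Ω)⁻¹, mul_mem (mul_mem g.2 (hUN x.2)) (inv_mem g.2)⟩ := fun g => by
        rw [show (e x : Ω) = χ ⟨x, hUN x.2⟩ from rfl, ← map_inv, ← map_mul, ← map_mul]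
        rfl
      rw [hL, hL]
      exact congrArg χ (Subtype.ext (hve x)))
    (α := MulAut.congr e α) (eaut_congr d hUT he hα)
    (by rwa [MulEquiv.orderOf_eq (MulAut.congr e) α]) (fun y hy => by
      obtain ⟨m, hm, rfl⟩ := H85.mem_img.1 hy
      obtain ⟨m', hm', hmm'⟩ := hnorm m hm
      refine ⟨χ ⟨m', hM hm'⟩, H85.apply_mem_img hm', fun z hz => ?_⟩
      obtain ⟨x, rfl⟩ := e.surjective z
      have hx : (m : Ω) * ((α⁻¹ x : U) : Ω) * (m : Ω)⁻¹ ∈ U :=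
        H85.conj_mem_of_mem_normalizer m.2.2 (α⁻¹ x).2
      have hL : ∀ (g : normalizerIn S U) (u : U), χ g * (e u : Ω) * (χ g)⁻¹ =
          χ ⟨(g : Ω) * u * (g : Ω)⁻¹, mul_mem (mul_mem g.2 (hUN u.2)) (inv_mem g.2)⟩ := fun g u => by
        rw [show (e u : Ω) = χ ⟨u, hUN u.2⟩ from rfl, ← map_inv, ← map_mul, ← map_mul]
        rfl
      have h1 : (⟨_, hz⟩ : U') = e ⟨_, hx⟩ := by
        refine Subtype.ext ?_
        show χ m * (((MulAut.congr e α)⁻¹ (e x) : U') : Ω) * (χ m)⁻¹ = _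
        rw [show (MulAut.congr e α)⁻¹ (e x) = e (α⁻¹ x) by
          rw [← map_inv]; simp [MulAut.congr], hL]
        rfl
      rw [h1, show (MulAut.congr e α) (e ⟨_, hx⟩) = e (α ⟨_, hx⟩) by simp [MulAut.congr], hL]
      exact congrArg χ (Subtype.ext (hmm' x hx)))
  have hX'S : M' ⊔ centralizerIn S U' ≤ S :=
    sup_le (hM'N.trans (H85.normalizerIn_le U')) (H85.centralizerIn_le U')
  obtain ⟨f', hf', hf't, hf'ord, hf'e⟩ :=
    exists_res_trivMod hX'S hf hft (inf_le_left : M' ⊓ T ≤ M') le_sup_left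
  let a : MulAut M := MulAut.congr eM.symm f'
  have hav : ∀ x : M, (eM (a x)) = f' (eM x) := fun x => by simp [a, MulAut.congr]
  have hapre : ∀ (x y : M), ((eM x : Ω))⁻¹ * (eM y : Ω) ∈ T → (x : Ω)⁻¹ * y ∈ T := by
    intro x y h
    refine (d.mapT heM (x⁻¹ * y)).1 ?_
    show ((eM (x⁻¹ * y) : M') : Ω) ∈ T
    rw [map_mul, map_inv]
    exact h
  have hat : a ∈ trivMod (M ⊓ T) M := fun x => by
    refine ⟨M.mul_mem (M.inv_mem x.2) (a x).2, hapre _ _ ?_⟩
    rw [hav]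
    exact (hf't (eM x)).2
  have haF : a ∈ F.autGroup M := H85.congr_mem_autGroup heM.symm hf'
  have hao : (orderOf a).Coprime p := by
    show (orderOf (MulAut.congr eM.symm f')).Coprime p
    rw [MulEquiv.orderOf_eq (MulAut.congr eM.symm) f']
    exact Nat.Coprime.of_dvd_left hf'ord hford
  have haU : ∀ x : U, (a (Subgroup.inclusion hUM x) : Ω) = α x := fun x => by
    refine congrArg Subtype.val (show a (Subgroup.inclusion hUM x) =
      Subgroup.inclusion hUM (α x) from eM.injective ?_)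
    rw [hav]
    refine Subtype.ext ((hf'e _).trans ?_)
    refine Eq.trans ?_ ((hfU (e x)).trans ?_)
    · exact congrArg (fun z => (f z : Ω)) (Subtype.ext rfl)
    · show ((MulAut.congr e α (e x) : U') : Ω) = (eM (Subgroup.inclusion hUM (α x)) : Ω)
      simp [MulAut.congr]
      rfl
  have haC : ∀ c : M, (c : Ω) ∈ centralizerIn S U → (c : Ω)⁻¹ * a c ∈ U := by
    intro c hc''
    have h1 : ((eM c : M') : Ω) ∈ centralizerIn S U' :=
      H85.extend_maps_centralizer (e := e) hUN (fun _ => rfl)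
        (g := Subgroup.inclusion hM c) (H85.map_mem hχ _) hc''
    have h2 := hfC (Subgroup.inclusion le_sup_left (eM c)) h1
    rw [← hf'e, ← hav] at h2
    obtain ⟨u, hu⟩ := e.surjective ⟨_, h2⟩
    have h3 : eM (c⁻¹ * a c) = eM (Subgroup.inclusion hUM u) := by
      refine Subtype.ext (Eq.trans ?_ (congrArg Subtype.val hu).symm)
      rw [map_mul, map_inv]
      rfl
    have h4 := congrArg Subtype.val (eM.injective h3)
    have h5 : (c : Ω)⁻¹ * a c = (u : Ω) := h4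
    rw [h5]
    exact u.2
  obtain ⟨β, hβ, -, hβord, hβe⟩ :=
    exists_res_trivMod hMS haF hat le_rfl (inf_le_left : M ⊓ T ≤ M)
  have hβE := res_mem_E d hn hc hM hUM hC hα hβ (Nat.Coprime.of_dvd_left hβord hao)
    fun x hx => (hβe ⟨x, hx⟩).trans (haU x)
  refine ⟨a, mem_naive_aut d hMS haF (fun x => (hat x).2)
    ((H85.mem_autGroup inf_le_right).1 hβE) (fun x => (hβe x).symm), hao, hat, haU, haC⟩

end H86.SE
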