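import Cfsg.Agent.H86.ExtAll
import Cfsg.Agent.H86.Quotient
import Cfsg.Agent.H86.PrimeIndex

/-! The naive product of `S` with a normal subsystem `E`: maps that are, on the part inside the base,
conjugation by an element of `S` composed with a map of `E`, and congruent to that conjugation. -/

set_option autoImplicit false
set_option linter.unusedSectionVars false

open Cfsg Cfsg.FusionSystem

namespace H86.SE

variable {Ω : Type*} [Group Ω] {S T : Subgroup Ω} [Finite S] {p : ℕ} [Fact p.Prime]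
  {F : FusionSystem S} {E : FusionSystem T}

/-- The hypotheses of the product. -/
structure Data (p : ℕ) (F : FusionSystem S) (E : FusionSystem T) : Prop where
  hS : IsPGroup p S
  hE : E.IsNormalIn F p

namespace Data

theorem satE (d : Data p F E) : E.IsSaturated p := d.hE.1.1

theorem satF (d : Data p F E) : F.IsSaturated p := d.hE.1.2.1

theorem inv (d : Data p F E) : E.IsInvariantIn F := d.hE.1.2.2

theorem subE (d : Data p F E) : E.IsSubsystemOf F := d.inv.1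

theorem closedT (d : Data p F E) : F.StronglyClosed T := d.inv.2.1

theorem le_base (d : Data p F E) : T ≤ S := d.closedT.1

theorem finT (d : Data p F E) : Finite T := H85.finite_of_le d.le_base

theorem pT (d : Data p F E) : IsPGroup p T := d.hS.to_le d.le_base

theorem conjT (d : Data p F E) {s t : Ω} (hs : s ∈ S) (ht : t ∈ T) : s * t * s⁻¹ ∈ T :=
  normal_of_stronglyClosed F d.closedT hs ht

theorem conjT' (d : Data p F E) {s t : Ω} (hs : s ∈ S) (ht : t ∈ T) : s⁻¹ * t * s ∈ T := by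
  have h := d.conjT (inv_mem hs) ht
  rwa [inv_inv] at h

theorem mapT (d : Data p F E) {P : Subgroup Ω} {φ : P →* Ω} (hφ : φ ∈ F.Hom P) (x : P) :
    φ x ∈ T ↔ (x : Ω) ∈ T := by
  refine ⟨fun h => ?_, fun h => map_mem_of_stronglyClosed d.closedT hφ h⟩
  obtain ⟨ψ, hψ, he⟩ := F.inv_mem hφ
  have h' := map_mem_of_stronglyClosed d.closedT hψ (x := ⟨φ x, x, rfl⟩) h
  rwa [he] at h'

end Data

/-- Conjugating a map of `E` by an element of `S`. -/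
theorem econj (d : Data p F E) {s : Ω} (hs : s ∈ S) {R : Subgroup Ω} {e : R →* Ω}
    (he : e ∈ E.Hom R) {R' : Subgroup Ω} (hR' : ∀ y ∈ R', s⁻¹ * y * s ∈ R) :
    ∃ χ ∈ E.Hom R', ∀ y : R', χ y = s * e ⟨s⁻¹ * y * s, hR' y y.2⟩ * s⁻¹ := by
  obtain ⟨χ, hχ, hχe⟩ := strongInv_of_invariant d.inv R T (H85.source_le he) le_rfl e he
    (E.le_of_mem he).2 _ (F.conj_mem d.le_base hs)
  have hle : R' ≤ (R.subgroupOf T).map (Cfsg.conjHom T s) := fun y hy => by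
    refine ⟨⟨s⁻¹ * y * s, H85.source_le he (hR' y hy)⟩, hR' y hy, ?_⟩
    show s * (s⁻¹ * y * s) * s⁻¹ = y
    group
  refine ⟨_, H85.restrict hχ hle, fun y => ?_⟩
  have hy : (Cfsg.conjHom T s) (Subgroup.inclusion (H85.source_le he)
      ⟨s⁻¹ * y * s, hR' y y.2⟩) = (y : Ω) := by
    show s * (s⁻¹ * y * s) * s⁻¹ = (y : Ω)
    group
  have h := hχe ⟨s⁻¹ * y * s, hR' y y.2⟩ (by rw [hy]; exact hle y.2)
  exact (congrArg χ (Subtype.ext hy.symm)).trans h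

/-- `φ` is `c_s` modulo `T`, and `c_s` composed with a map of `E` on the part inside `T`. -/
def Cert (E : FusionSystem T) {P : Subgroup Ω} (φ : P →* Ω) (s : Ω) : Prop :=
  (∀ x : P, (s * x * s⁻¹)⁻¹ * φ x ∈ T) ∧
    ∃ e ∈ E.Hom (P ⊓ T), ∀ x : ↥(P ⊓ T), φ ⟨x, x.2.1⟩ = s * e x * s⁻¹

theorem cert_conj (d : Data p F E) (P : Subgroup Ω) (g : Ω) :
    Cert E (Cfsg.conjHom P g) g :=
  ⟨fun x => by rw [H85.conjHom_apply, inv_mul_cancel]; exact T.one_mem, (P ⊓ T).subtype,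
    H85.id_mem E inf_le_right, fun _ => rfl⟩

theorem cert_comp (d : Data p F E) {P Q : Subgroup Ω} {φ : P →* Ω} {ψ : Q →* Ω} {s t : Ω}
    (hs : s ∈ S) (ht : t ∈ S) (hφ : φ ∈ F.Hom P) (h : Cert E φ s) (h' : Cert E ψ t)
    (hm : ∀ x : P, φ x ∈ Q) : Cert E (ψ.comp (φ.codRestrict Q hm)) (t * s) := by
  obtain ⟨h1, e, he, hee⟩ := h
  obtain ⟨h1', e', he', hee'⟩ := h'
  refine ⟨fun x => ?_, ?_⟩
  · have h2 := T.mul_mem (d.conjT ht (h1 x)) (h1' ⟨φ x, hm x⟩)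
    show (t * s * x * (t * s)⁻¹)⁻¹ * ψ ⟨φ x, hm x⟩ ∈ T
    rwa [show (t * s * x * (t * s)⁻¹)⁻¹ * ψ ⟨φ x, hm x⟩ =
      t * ((s * x * s⁻¹)⁻¹ * φ x) * t⁻¹ * ((t * φ x * t⁻¹)⁻¹ * ψ ⟨φ x, hm x⟩) by group]
  have hR' : ∀ y ∈ e.range, s⁻¹⁻¹ * y * s⁻¹ ∈ Q ⊓ T := by
    rintro _ ⟨x, rfl⟩
    rw [inv_inv, ← hee x]
    exact ⟨hm _, (d.mapT hφ _).2 x.2.2⟩
  obtain ⟨χ, hχ, hχe⟩ := econj d (inv_mem hs) he' hR'
  refine ⟨_, E.comp_mem he hχ (fun x => ⟨x, rfl⟩), fun x => ?_⟩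
  show ψ ⟨φ ⟨x, x.2.1⟩, hm _⟩ = t * s * χ ⟨e x, x, rfl⟩ * (t * s)⁻¹
  have h2 := hee' ⟨φ ⟨x, x.2.1⟩, hm _, (d.mapT hφ _).2 x.2.2⟩
  rw [hχe]
  refine h2.trans ?_
  rw [show (⟨φ ⟨x, x.2.1⟩, hm _, (d.mapT hφ _).2 x.2.2⟩ : ↥(Q ⊓ T)) =
    ⟨s⁻¹⁻¹ * ((⟨e x, x, rfl⟩ : e.range) : Ω) * s⁻¹, hR' _ ⟨x, rfl⟩⟩ from
      Subtype.ext ((hee x).trans (by simp only [inv_inv]))]
  group

theorem cert_inv (d : Data p F E) {P : Subgroup Ω} {φ : P →* Ω} {s : Ω} (hs : s ∈ S)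
    (hφ : φ ∈ F.Hom P) (h : Cert E φ s) {ψ : φ.range →* Ω} (hψ : ψ ∈ F.Hom φ.range)
    (hψe : ∀ x : P, ψ ⟨φ x, x, rfl⟩ = (x : Ω)) : Cert E ψ s⁻¹ := by
  obtain ⟨h1, e, he, hee⟩ := h
  refine ⟨?_, ?_⟩
  · rintro ⟨_, x, rfl⟩
    rw [hψe]
    have h2 := T.inv_mem (h1 x)
    have h3 := d.conjT' hs h2
    show (s⁻¹ * φ x * s⁻¹⁻¹)⁻¹ * (x : Ω) ∈ T
    rwa [show (s⁻¹ * φ x * s⁻¹⁻¹)⁻¹ * (x : Ω) =
      s⁻¹ * ((s * x * s⁻¹)⁻¹ * φ x)⁻¹ * s by group]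
  obtain ⟨f, hf, hfe⟩ := E.inv_mem he
  have hx : ∀ y ∈ φ.range ⊓ T, ∃ x : ↥(P ⊓ T), φ ⟨x, x.2.1⟩ = y := by
    rintro _ ⟨⟨x, rfl⟩, hT⟩
    exact ⟨⟨x, x.2, (d.mapT hφ x).1 hT⟩, rfl⟩
  have hR' : ∀ y ∈ φ.range ⊓ T, s⁻¹ * y * s ∈ e.range := fun y hy => by
    obtain ⟨x, rfl⟩ := hx y hy
    refine ⟨x, ?_⟩
    rw [hee]
    group
  obtain ⟨χ, hχ, hχe⟩ := econj d hs hf hR'
  refine ⟨χ, hχ, ?_⟩
  rintro ⟨y, hy⟩
  obtain ⟨x, hxy⟩ := hx y hy
  subst hxy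
  rw [hψe, hχe]
  have h2 : f ⟨s⁻¹ * φ ⟨x, x.2.1⟩ * s, hR' _ hy⟩ = (x : Ω) :=
    (congrArg f (Subtype.ext (show s⁻¹ * φ ⟨x, x.2.1⟩ * s = e x by rw [hee]; group))).trans (hfe x)
  show (x : Ω) = s⁻¹ * (s * f _ * s⁻¹) * s⁻¹⁻¹
  rw [h2]
  group

/-- The naive product. -/
def naive (d : Data p F E) : FusionSystem S where
  Hom P := {φ | φ ∈ F.Hom P ∧ ∃ s ∈ S, Cert E φ s}
  le_of_mem h := F.le_of_mem h.1
  injective_of_mem h := F.injective_of_mem h.1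
  conj_mem hP hg := ⟨F.conj_mem hP hg, _, hg, cert_conj d _ _⟩
  comp_mem := by
    rintro P Q φ ψ ⟨hφ, s, hs, h⟩ ⟨hψ, t, ht, h'⟩ hm
    exact ⟨F.comp_mem hφ hψ hm, t * s, mul_mem ht hs, cert_comp d hs ht hφ h h' hm⟩
  inv_mem := by
    rintro P φ ⟨hφ, s, hs, h⟩
    obtain ⟨ψ, hψ, hψe⟩ := F.inv_mem hφ
    exact ⟨ψ, ⟨hψ, s⁻¹, inv_mem hs, cert_inv d hs hφ h hψ hψe⟩, hψe⟩

theorem naive_sub (d : Data p F E) : (naive d).IsSubsystemOf F := fun _ _ h => h.1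

theorem cert_of_le {P : Subgroup Ω} {φ : P →* Ω} (h : φ ∈ E.Hom P) : Cert E φ 1 := by
  have hP := H85.source_le h
  refine ⟨fun x => ?_, _, H85.restrict h (inf_le_left : P ⊓ T ≤ P), fun x => ?_⟩
  · rw [one_mul, inv_one, mul_one]
    exact T.mul_mem (T.inv_mem (hP x.2)) ((E.le_of_mem h).2 x)
  · rw [one_mul, inv_one, mul_one]
    rfl

theorem subE_naive (d : Data p F E) : E.IsSubsystemOf (naive d) := fun _ _ h =>
  ⟨d.subE _ h, 1, S.one_mem, cert_of_le h⟩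

/-- Inside `T` a map of the naive product is a map of `E` composed with a conjugation. -/
theorem frattini_naive (d : Data p F E) {P : Subgroup Ω} (hP : P ≤ T) {φ : P →* Ω}
    (hφ : φ ∈ (naive d).Hom P) :
    ∃ s ∈ S, ∃ e ∈ E.Hom P, ∀ x : P, φ x = s * e x * s⁻¹ := by
  obtain ⟨-, s, hs, -, e, he, hee⟩ := hφ
  exact ⟨s, hs, _, H85.restrict he (le_inf le_rfl hP), fun x => hee ⟨x, x.2, hP x.2⟩⟩

theorem cert_mul (d : Data p F E) {P : Subgroup Ω} (hP : P ≤ S) {a b : MulAut P} {s t : Ω}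
    (hs : s ∈ S) (ht : t ∈ S) (hb : b ∈ F.autGroup P)
    (ha' : Cert E (P.subtype.comp a.toMonoidHom) t)
    (hb' : Cert E (P.subtype.comp b.toMonoidHom) s) :
    Cert E (P.subtype.comp (a * b).toMonoidHom) (t * s) := by
  have h := cert_comp d hs ht ((H85.mem_autGroup hP).1 hb) hb' ha' (fun x => (b x).2)
  exact h

theorem cert_pow (d : Data p F E) {P : Subgroup Ω} (hP : P ≤ S) {a : MulAut P} {s : Ω}
    (hs : s ∈ S) (ha : a ∈ F.autGroup P) (ha' : Cert E (P.subtype.comp a.toMonoidHom) s) :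
    ∀ n : ℕ, Cert E (P.subtype.comp (a ^ n).toMonoidHom) (s ^ n) := by
  intro n
  induction n with
  | zero =>
    refine ⟨fun x => ?_, (P ⊓ T).subtype, H85.id_mem E inf_le_right, fun x => ?_⟩
    · simp
    · simp
  | succ n ih =>
    rw [pow_succ, pow_succ]
    exact cert_mul d hP hs (pow_mem hs n) ha ih ha'

/-- An automorphism of order prime to `p` of the naive product is trivial modulo `T` and induces
an automorphism in `E` on the part inside `T`. -/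
theorem coprime_props (d : Data p F E) {P : Subgroup Ω} (hP : P ≤ S) {a : MulAut P}
    (ha : a ∈ (naive d).autGroup P) (hord : (orderOf a).Coprime p) :
    a ∈ trivMod T P ∧ ∃ e ∈ E.Hom (P ⊓ T), ∀ x : ↥(P ⊓ T), (a ⟨x, x.2.1⟩ : Ω) = e x := by
  obtain ⟨haF, s, hs, h⟩ := (H85.mem_autGroup hP).1 ha
  obtain ⟨n, hn⟩ := d.hS ⟨s, hs⟩
  obtain ⟨m, hm⟩ := exists_pow_eq_self_of_coprime
    (show Nat.Coprime (p ^ n) (orderOf a) from Nat.Coprime.pow_left n hord.symm)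
  have h' := cert_pow d hP hs ((H85.mem_autGroup hP).2 haF) h (p ^ n * m)
  rw [pow_mul, hm, pow_mul, show s ^ p ^ n = 1 from congrArg Subtype.val hn, one_pow] at h'
  obtain ⟨h1, e, he, hee⟩ := h'
  refine ⟨fun x => ?_, e, he, fun x => ?_⟩
  · simpa using h1 x
  · simpa using hee x

/-- A criterion for automorphisms to lie in the naive product. -/
theorem mem_naive_aut (d : Data p F E) {P : Subgroup Ω} (hP : P ≤ S) {a : MulAut P}
    (ha : a ∈ F.autGroup P) (ht : a ∈ trivMod T P) {e : ↥(P ⊓ T) →* Ω} (he : e ∈ E.Hom (P ⊓ T))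
    (hee : ∀ x : ↥(P ⊓ T), (a ⟨x, x.2.1⟩ : Ω) = e x) : a ∈ (naive d).autGroup P := by
  refine (H85.mem_autGroup hP).2 ⟨(H85.mem_autGroup hP).1 ha, 1, S.one_mem, fun x => ?_, e, he,
    fun x => ?_⟩
  · simpa using ht x
  · simpa using hee x

end H86.SE
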