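import Cfsg.Agent.H86.SE.Naive
import Cfsg.Agent.H86.Hyperfocal
import Cfsg.Agent.H85.HSaturated

/-! The product of `S` with a normal subsystem: the least subsystem of the naive product containing
the automorphisms of order prime to `p` of the admissible subgroups. -/

set_option autoImplicit false
set_option linter.unusedSectionVars false

open Cfsg Cfsg.FusionSystem

namespace H86.SE

variable {Ω : Type*} [Group Ω] {S T : Subgroup Ω} [Finite S] {p : ℕ} [Fact p.Prime]
  {F : FusionSystem S} {E : FusionSystem T}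

/-- A map of `F` carries the part inside `T` onto the part inside `T`. -/
theorem img_inf (d : Data p F E) {P : Subgroup Ω} {φ : P →* Ω} (hφ : φ ∈ F.Hom P) :
    H85.img φ (P ⊓ T) = φ.range ⊓ T := by
  refine le_antisymm (fun y hy => ?_) ?_
  · obtain ⟨x, hx, rfl⟩ := H85.mem_img.1 hy
    exact ⟨⟨x, rfl⟩, (d.mapT hφ x).2 hx.2⟩
  · rintro _ ⟨⟨x, rfl⟩, h⟩
    exact H85.apply_mem_img ⟨x.2, (d.mapT hφ x).1 h⟩

theorem card_inf_range (d : Data p F E) {P : Subgroup Ω} {φ : P →* Ω} (hφ : φ ∈ F.Hom P) :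
    Nat.card ↥(φ.range ⊓ T) = Nat.card ↥(P ⊓ T) := by
  rw [← img_inf d hφ]
  exact (H85.isConj_card (H85.isConj_img hφ inf_le_left)).symm

/-- Conjugation by a map of `F` preserves the automorphisms in `E`. -/
theorem eaut_congr (d : Data p F E) {U U₁ : Subgroup Ω} (hU : U ≤ T) {e : U ≃* U₁}
    (he : H85.IsFIso F e) {a : MulAut U} (ha : a ∈ E.autGroup U) :
    MulAut.congr e a ∈ E.autGroup U₁ := by
  have := d.finT
  have hU₁ : U₁ ≤ T := fun y hy => by
    obtain ⟨x, hx⟩ := e.surjective ⟨y, hy⟩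
    have h : (U₁.subtype.comp e.toMonoidHom) x ∈ T := (d.mapT he x).2 (hU x.2)
    rwa [show (U₁.subtype.comp e.toMonoidHom) x = y from congrArg Subtype.val hx] at h
  obtain ⟨χ, hχ, hχe⟩ := strongInv_of_invariant d.inv U U le_rfl hU _
    ((H85.mem_autGroup hU).1 ha) (fun x => (a x).2) _ he
  have hle : U₁ ≤ (U.subgroupOf U).map (U₁.subtype.comp e.toMonoidHom) := fun y hy => by
    obtain ⟨x, hx⟩ := e.surjective ⟨y, hy⟩
    exact ⟨x, x.2, congrArg Subtype.val hx⟩
  refine (H85.mem_autGroup hU₁).2 (H85.hom_congr (H85.restrict hχ hle) fun y => ?_)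
  obtain ⟨x, rfl⟩ := e.surjective y
  refine (Eq.trans ?_ (hχe x ⟨x, x.2, congrArg (fun z => (e z : Ω)) (Subtype.ext rfl)⟩)).trans ?_
  · exact congrArg χ (Subtype.ext rfl)
  · show (e (a x) : Ω) = (e (a (e.symm (e x))) : Ω)
    rw [e.symm_apply_apply]

/-- The admissible subgroups: in every conjugate the part inside `T` is centric in `E` and its
centraliser in `S` lies in the subgroup. -/
def Hs (d : Data p F E) : Set (Subgroup Ω) :=
  {P | P ≤ S ∧ ∀ φ ∈ (naive d).Hom P,
    E.IsCentric (φ.range ⊓ T) ∧ centralizerIn S (φ.range ⊓ T) ≤ φ.range}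

theorem hs_le (d : Data p F E) {P : Subgroup Ω} (h : P ∈ Hs d) : P ≤ S := h.1

theorem hs_centric (d : Data p F E) {P : Subgroup Ω} (h : P ∈ Hs d) : E.IsCentric (P ⊓ T) := by
  simpa using (h.2 _ (H85.id_mem (naive d) h.1)).1

theorem hs_cent (d : Data p F E) {P : Subgroup Ω} (h : P ∈ Hs d) :
    centralizerIn S (P ⊓ T) ≤ P := by
  simpa using (h.2 _ (H85.id_mem (naive d) h.1)).2

theorem hs_centralizer (d : Data p F E) {P : Subgroup Ω} (h : P ∈ Hs d) :
    centralizerIn S P ≤ P :=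
  (centralizerIn_antitone inf_le_left).trans (hs_cent d h)

theorem hs_mono (d : Data p F E) {P Q : Subgroup Ω} (h : P ∈ Hs d) (hPQ : P ≤ Q) (hQ : Q ≤ S) :
    Q ∈ Hs d := by
  refine ⟨hQ, fun φ hφ => ?_⟩
  obtain ⟨h1, h2⟩ := h.2 _ (H85.restrict hφ hPQ)
  have hle : (φ.comp (Subgroup.inclusion hPQ)).range ≤ φ.range := by
    rintro _ ⟨x, rfl⟩
    exact ⟨_, rfl⟩
  exact ⟨H85.centric_mono h1 (inf_le_inf_right _ hle) inf_le_right,
    (centralizerIn_antitone (inf_le_inf_right _ hle)).trans (h2.trans hle)⟩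

theorem hs_conj (d : Data p F E) {P Q : Subgroup Ω} (h : P ∈ Hs d)
    (hc : (naive d).IsConj P Q) : Q ∈ Hs d := by
  obtain ⟨φ, hφ, rfl⟩ := hc
  refine ⟨H85.range_le hφ, fun ψ hψ => ?_⟩
  have hr : (ψ.comp (φ.codRestrict φ.range fun x => ⟨x, rfl⟩)).range = ψ.range := by
    refine le_antisymm ?_ ?_
    · rintro _ ⟨x, rfl⟩
      exact ⟨_, rfl⟩
    · rintro _ ⟨⟨_, x, rfl⟩, rfl⟩
      exact ⟨x, rfl⟩
  exact hr ▸ h.2 _ ((naive d).comp_mem hφ hψ fun x => ⟨x, rfl⟩)

theorem hs_top (d : Data p F E) : S ∈ Hs d := by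
  have := d.finT
  refine ⟨le_rfl, fun φ hφ => ?_⟩
  have hr : φ.range = S := H85.conj_top ⟨φ, hφ, rfl⟩
  rw [hr, inf_eq_right.2 d.le_base]
  exact ⟨H85.centric_top E, H85.centralizerIn_le _⟩

/-- The generating automorphisms. -/
def Gen (d : Data p F E) (R : Subgroup Ω) : Set (R →* Ω) :=
  {φ | R ∈ Hs d ∧ ∃ a ∈ (naive d).autGroup R, (orderOf a).Coprime p ∧
    φ = R.subtype.comp a.toMonoidHom}

/-- The product of `S` with `E`. -/
def prodSys (d : Data p F E) : FusionSystem S :=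
  residual (naive d) fun X => ∀ R, Gen d R ⊆ X.Hom R

theorem prodSys_le_naive (d : Data p F E) : prodSys d ≤ naive d := fun _ _ h => h.1

theorem prodSys_sub (d : Data p F E) : (prodSys d).IsSubsystemOf F := fun _ _ h => h.1.1

theorem gen_sub (d : Data p F E) (R : Subgroup Ω) : Gen d R ⊆ (prodSys d).Hom R := by
  rintro φ ⟨hR, a, ha, hord, rfl⟩
  exact ⟨(H85.mem_autGroup hR.1).1 ha, fun X hX => hX R ⟨hR, a, ha, hord, rfl⟩⟩

theorem gen_hs (d : Data p F E) {R : Subgroup Ω} {φ : R →* Ω} (h : φ ∈ Gen d R) : R ∈ Hs d := h.1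

theorem gen_range (d : Data p F E) {R : Subgroup Ω} {φ : R →* Ω} (h : φ ∈ Gen d R) :
    φ.range = R := by
  obtain ⟨-, a, -, -, rfl⟩ := h
  exact H85.IsFIso.range_eq a

theorem gen_le (d : Data p F E) (X : FusionSystem S) (h : ∀ R, Gen d R ⊆ X.Hom R) :
    prodSys d ≤ X := fun _ _ hφ => hφ.2 X h

theorem autGroup_le_naive (d : Data p F E) (P : Subgroup Ω) :
    (prodSys d).autGroup P ≤ (naive d).autGroup P :=
  H85.autGroup_mono (prodSys_le_naive d) P

/-- The automorphisms of order prime to `p` of an admissible subgroup lie in the product. -/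
theorem coprime_mem_hs (d : Data p F E) {P : Subgroup Ω} (hP : P ∈ Hs d) {a : MulAut P}
    (ha : a ∈ (naive d).autGroup P) (hord : (orderOf a).Coprime p) :
    a ∈ (prodSys d).autGroup P :=
  (H85.mem_autGroup hP.1).2 (gen_sub d P ⟨hP, a, ha, hord, rfl⟩)

theorem hs_conj_prodSys (d : Data p F E) : ∀ P ∈ Hs d, ∀ Q, (prodSys d).IsConj P Q → Q ∈ Hs d :=
  fun _ hP _ ⟨φ, hφ, hr⟩ => hs_conj d hP ⟨φ, hφ.1, hr⟩

theorem hyp_le (d : Data p F E) : (prodSys d).hyperfocalSubgroup p ≤ T := by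
  rw [hyperfocalSubgroup, Subgroup.closure_le]
  rintro _ ⟨P, α, x, hP, hα, rfl⟩
  have hle : pResidual p ((prodSys d).autGroup P) ≤
      (trivMod T P).subgroupOf ((prodSys d).autGroup P) := by
    rw [pResidual, Subgroup.closure_le]
    intro a ha
    exact (coprime_props d hP (autGroup_le_naive d P a.2)
      (by rw [Subgroup.orderOf_coe]; exact ha)).1
  exact hle hα x

/-- The order of the induction: first the part inside `T`, then the subgroup. -/
noncomputable def key (S T : Subgroup Ω) (P : Subgroup Ω) : ℕ :=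
  Nat.card ↥(P ⊓ T) * (Nat.card S + 1) + Nat.card P

theorem key_mono {A B : Subgroup Ω} (h : A < B) (hB : B ≤ S) : key S T A < key S T B := by
  have : Finite B := H85.finite_of_le hB
  have : Finite ↥(B ⊓ T) := H85.finite_of_le (inf_le_left.trans hB)
  exact Nat.add_lt_add_of_le_of_lt
    (Nat.mul_le_mul_right _ (Subgroup.card_le_of_le (inf_le_inf_right _ h.le)))
    (H85.card_lt_of_lt hB h)

theorem key_lt_of_inf {A B : Subgroup Ω} (hA : A ≤ S)
    (h : Nat.card ↥(A ⊓ T) < Nat.card ↥(B ⊓ T)) : key S T A < key S T B := by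
  have h1 := Subgroup.card_le_of_le hA
  have h2 : (Nat.card ↥(A ⊓ T) + 1) * (Nat.card S + 1) ≤
      Nat.card ↥(B ⊓ T) * (Nat.card S + 1) := Nat.mul_le_mul_right _ h
  rw [Nat.add_mul, one_mul] at h2
  unfold key
  omega

theorem key_conj (d : Data p F E) {A B : Subgroup Ω} (h : (prodSys d).IsConj A B) :
    key S T A = key S T B := by
  obtain ⟨φ, hφ, rfl⟩ := h
  unfold key
  rw [card_inf_range d (prodSys_sub d _ hφ),
    card_range F (prodSys_sub d _ hφ)]

/-- Some conjugate is fully automized and receptive. -/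
def Sat (p : ℕ) (D : FusionSystem S) (R : Subgroup Ω) : Prop :=
  ∃ R', D.IsConj R R' ∧ D.IsFullyAutomized p R' ∧ D.IsReceptive R'

/-- Saturation holds at the subgroups meeting `T` in more than `n` elements. -/
def SatAbove (d : Data p F E) (n : ℕ) : Prop :=
  ∀ R : Subgroup Ω, R ≤ S → n < Nat.card ↥(R ⊓ T) → Sat p (prodSys d) R

theorem satAbove_of_key (d : Data p F E) {P : Subgroup Ω} (hP : P ≤ S)
    (h : ∀ R ≤ S, key S T P < key S T R → Sat p (prodSys d) R) :
    SatAbove d (Nat.card ↥(P ⊓ T)) := fun R hR hlt => h R hR (key_lt_of_inf hP hlt)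

end H86.SE
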